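/-
Unitary matrices for the standard form, their images in PSU, and transport from other Hermitian forms.
-/
import Cfsg.Agent.Lib.Classical.HermOrder
import Cfsg.Agent.Lib.Transvec.HermForm
import Cfsg.Agent.S0755

set_option autoImplicit false

namespace CfsgLib.UnitarySpec

open Matrix Cfsg CfsgLib.Classical

variable {F : Type*} [Field F] {n q : ℕ}

/-- `A` preserves the Hermitian form with matrix `H`. -/
def IsU {ι : Type*} [Fintype ι] (σ : F ≃+* F) (H A : Matrix ι ι F) : Prop := Aᵀ * H * A.map σ = H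

section

variable {ι : Type*} [Fintype ι] [DecidableEq ι] {σ : F ≃+* F}

omit [DecidableEq ι] in
lemma herm_exp (H A : Matrix ι ι F) (u v : ι → F) :
    (A *ᵥ u) ⬝ᵥ (H *ᵥ (σ ∘ (A *ᵥ v))) = u ⬝ᵥ ((Aᵀ * H * A.map σ) *ᵥ (σ ∘ v)) := by
  have h : (σ ∘ (A *ᵥ v)) = A.map σ *ᵥ (σ ∘ v) := by
    funext i
    exact RingHom.map_mulVec σ.toRingHom A v i
  rw [h, Matrix.mul_assoc, ← mulVec_mulVec, ← mulVec_mulVec, dotProduct_mulVec u Aᵀ, vecMul_transpose]

lemma IsU.one (H : Matrix ι ι F) : IsU σ H 1 := by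
  show (1 : Matrix ι ι F)ᵀ * H * (1 : Matrix ι ι F).map σ = H
  rw [transpose_one, Matrix.map_one _ (map_zero σ) (map_one σ), Matrix.one_mul, Matrix.mul_one]

omit [DecidableEq ι] in
lemma IsU.mul {H A B : Matrix ι ι F} (hA : IsU σ H A) (hB : IsU σ H B) : IsU σ H (A * B) := by
  show _ = H
  rw [transpose_mul, show (A * B).map σ = A.map σ * B.map σ from Matrix.map_mul (f := σ.toRingHom)]
  calc Bᵀ * Aᵀ * H * (A.map σ * B.map σ) = Bᵀ * (Aᵀ * H * A.map σ) * B.map σ := by simp only [Matrix.mul_assoc]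
    _ = H := by rw [show Aᵀ * H * A.map σ = H from hA]; exact hB

lemma IsU.pow {H A : Matrix ι ι F} (hA : IsU σ H A) : ∀ k : ℕ, IsU σ H (A ^ k)
  | 0 => by rw [pow_zero]; exact IsU.one H
  | k + 1 => by rw [pow_succ]; exact (IsU.pow hA k).mul hA

/-- The adjoint for the standard form. -/
def adj (σ : F ≃+* F) (M : Matrix ι ι F) : Matrix ι ι F := (M.map σ)ᵀ

omit [Fintype ι] [DecidableEq ι] in
lemma adj_add (M N : Matrix ι ι F) : adj σ (M + N) = adj σ M + adj σ N := by
  ext i j; simp [adj]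

omit [Fintype ι] [DecidableEq ι] in
lemma adj_smul (c : F) (M : Matrix ι ι F) : adj σ (c • M) = σ c • adj σ M := by
  ext i j; simp [adj]

omit [Fintype ι] in
lemma adj_one : adj σ (1 : Matrix ι ι F) = 1 := by
  rw [adj, Matrix.map_one _ (map_zero σ) (map_one σ), transpose_one]

omit [DecidableEq ι] in
lemma adj_mul (M N : Matrix ι ι F) : adj σ (M * N) = adj σ N * adj σ M := by
  rw [adj, show (M * N).map σ = M.map σ * N.map σ from Matrix.map_mul (f := σ.toRingHom), transpose_mul]; rfl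

lemma adj_pow (M : Matrix ι ι F) : ∀ k : ℕ, adj σ (M ^ k) = adj σ M ^ k
  | 0 => by rw [pow_zero, pow_zero, adj_one]
  | k + 1 => by rw [pow_succ, adj_mul, adj_pow M k, pow_succ']

lemma isU_one_iff (hinv : ∀ a, σ (σ a) = a) (A : Matrix ι ι F) : IsU σ 1 A ↔ adj σ A * A = 1 := by
  have h : ∀ X : Matrix ι ι F, (X.map σ).map σ = X := fun X => by ext i j; simp [hinv]
  constructor
  · intro hA
    have h1 : Aᵀ * A.map σ = 1 := by rw [← Matrix.mul_one Aᵀ]; exact hA
    have h2 := congrArg Matrix.transpose h1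
    rwa [transpose_mul, transpose_transpose, transpose_one] at h2
  · intro hA
    have h2 := congrArg Matrix.transpose hA
    rw [adj, transpose_mul, transpose_transpose, transpose_one] at h2
    show Aᵀ * 1 * A.map σ = 1
    rw [Matrix.mul_one]; exact h2

end

section Std

variable {σ : F ≃+* F} (hσ : ∀ a, σ a = a ^ q)

include hσ in
lemma mem_SU_iff (s : SpecialLinearGroup (Fin n) F) :
    s ∈ Cfsg.SU n F q ↔ IsU σ 1 (s : Matrix (Fin n) (Fin n) F) := by
  have hform : ∀ u v : Fin n → F, Cfsg.hermForm n F q u v = u ⬝ᵥ ((1 : Matrix (Fin n) (Fin n) F) *ᵥ (σ ∘ v)) := by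
    intro u v; rw [one_mulVec]; simp [Cfsg.hermForm, dotProduct, hσ]
  constructor
  · intro h
    show _ = _
    ext i j
    have h1 := h (Pi.single i 1) (Pi.single j 1)
    rw [slToMat_apply, hform, hform, herm_exp] at h1
    have hs : σ ∘ (Pi.single j (1 : F) : Fin n → F) = Pi.single j 1 := by
      funext k
      rcases eq_or_ne k j with rfl | hk
      · simp only [Function.comp_apply, Pi.single_eq_same, map_one]
      · simp only [Function.comp_apply, Pi.single_eq_of_ne hk, map_zero]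
    rw [hs] at h1
    simpa using h1
  · intro h u v
    rw [slToMat_apply, hform, hform, herm_exp, show _ = (1 : Matrix (Fin n) (Fin n) F) from h]

include hσ in
/-- A special unitary element from a matrix. -/
lemma exists_su (A : Matrix (Fin n) (Fin n) F) (hd : A.det = 1) (hA : IsU σ 1 A) :
    ∃ g : Cfsg.SU n F q, (g.1 : Matrix (Fin n) (Fin n) F) = A :=
  ⟨⟨⟨A, hd⟩, (mem_SU_iff hσ _).2 hA⟩, rfl⟩

/-- The class in `PSU`. -/
def psuMk : Cfsg.SU n F q →* Cfsg.PSU n F q := QuotientGroup.mk' _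

lemma su_coe_pow (g : Cfsg.SU n F q) (k : ℕ) :
    ((g ^ k).1 : Matrix (Fin n) (Fin n) F) = (g.1 : Matrix (Fin n) (Fin n) F) ^ k :=
  map_pow ((slToMat n F).comp (Cfsg.SU n F q).subtype) g k

lemma psuMk_pow_eq_one_of (g : Cfsg.SU n F q) (k : ℕ) {c : F}
    (h : (g.1 : Matrix (Fin n) (Fin n) F) ^ k = c • 1) : psuMk g ^ k = 1 := by
  rw [psuMk, ← map_pow, QuotientGroup.mk'_apply, QuotientGroup.eq_one_iff, Subgroup.mem_center_iff]
  intro s
  refine Subtype.ext (Subtype.ext ?_)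
  show (s.1 : Matrix (Fin n) (Fin n) F) * ((g ^ k).1 : Matrix (Fin n) (Fin n) F) = ((g ^ k).1 : Matrix (Fin n) (Fin n) F) * s.1
  rw [su_coe_pow, h, Matrix.mul_smul, Matrix.smul_mul, Matrix.mul_one, Matrix.one_mul]

lemma exists_of_psuMk_pow_eq_one [Fintype F] (hF : Fintype.card F = q ^ 2) (hn : 2 ≤ n) {σ : F ≃+* F}
    (hσ : ∀ a, σ a = a ^ q) (g : Cfsg.SU n F q) (k : ℕ) (h : psuMk g ^ k = 1) :
    ∃ c : F, (g.1 : Matrix (Fin n) (Fin n) F) ^ k = c • 1 ∧ c ^ n = 1 ∧ c ^ (q + 1) = 1 := by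
  rw [psuMk, ← map_pow, QuotientGroup.mk'_apply, QuotientGroup.eq_one_iff, Subgroup.mem_center_iff] at h
  have hcomm : ∀ s : Cfsg.SU n F q, (s.1 : Matrix (Fin n) (Fin n) F) * ((g ^ k).1 : Matrix (Fin n) (Fin n) F) =
      ((g ^ k).1 : Matrix (Fin n) (Fin n) F) * s.1 := fun s =>
    congrArg (fun x : Cfsg.SU n F q => (x.1 : Matrix (Fin n) (Fin n) F)) (h s)
  have hz := eq_scalar_of_commute hF hn _ hcomm
  set c := ((g ^ k).1 : Matrix (Fin n) (Fin n) F) ⟨0, by omega⟩ ⟨0, by omega⟩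
  have hz' : ((g ^ k).1 : Matrix (Fin n) (Fin n) F) = c • 1 := by rw [hz, scalar_apply, smul_one_eq_diagonal]
  refine ⟨c, by rw [← su_coe_pow, hz'], ?_, ?_⟩
  · have := (g ^ k).1.2
    rw [hz'] at this
    simpa using this
  · have h1 := (mem_SU_iff hσ _).1 (g ^ k).2
    rw [hz'] at h1
    have h2 := congrFun (congrFun h1 ⟨0, by omega⟩) ⟨0, by omega⟩
    simp [hσ] at h2
    rw [pow_succ, mul_comm, ← h2]

include hσ in
/-- Transport from any non-degenerate Hermitian form, keeping the determinant and the order. -/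
lemma exists_su_of_form [Finite F] (hinv : ∀ a, σ (σ a) = a) (hne : σ ≠ RingEquiv.refl F)
    {ι : Type} [Fintype ι] [DecidableEq ι] (hι : Fintype.card ι = n) {H A : Matrix ι ι F} (hH : Hᵀ = H.map σ)
    (hHd : H.det ≠ 0) (hA : IsU σ H A) (hd : A.det = 1) :
    ∃ g : Cfsg.SU n F q, orderOf g = orderOf A := by
  classical
  let B : (ι → F) →ₛₗ[(σ : F →+* F)] (ι → F) →ₗ[F] F :=
    LinearMap.mk₂'ₛₗ (σ : F →+* F) (RingHom.id F) (fun u v => v ⬝ᵥ (H *ᵥ (σ ∘ u)))
      (fun u u' v => by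
        rw [show (σ ∘ (u + u') : ι → F) = σ ∘ u + σ ∘ u' by funext i; simp, mulVec_add, dotProduct_add])
      (fun c u v => by
        rw [show (σ ∘ (c • u) : ι → F) = σ c • (σ ∘ u) by funext i; simp, mulVec_smul, dotProduct_smul]; rfl)
      (fun u v v' => by simp)
      (fun c u v => by simp)
  have hB : ∀ u v, B u v = v ⬝ᵥ (H *ᵥ (σ ∘ u)) := fun _ _ => rfl
  have hσσ : ∀ u : ι → F, σ ∘ (σ ∘ u) = u := fun u => by funext i; simp [hinv]
  have hsym : ∀ u v, σ (B u v) = B v u := fun u v => by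
    rw [hB, hB, show σ (v ⬝ᵥ (H *ᵥ (σ ∘ u))) = (σ ∘ v) ⬝ᵥ (H.map σ *ᵥ (σ ∘ (σ ∘ u))) by
      rw [show σ (v ⬝ᵥ (H *ᵥ (σ ∘ u))) = σ.toRingHom (v ⬝ᵥ (H *ᵥ (σ ∘ u))) from rfl, RingHom.map_dotProduct]
      congr 1
      funext i
      exact RingHom.map_mulVec σ.toRingHom H (σ ∘ u) i,
      hσσ, ← hH, mulVec_transpose, dotProduct_comm, ← dotProduct_mulVec]
  have hsep : B.SeparatingLeft := fun u hu => by
    have h1 : H *ᵥ (σ ∘ u) = 0 := funext fun i => by simpa [hB] using hu (Pi.single i 1)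
    have h2 := Matrix.eq_zero_of_mulVec_eq_zero hHd h1
    rw [← hσσ u, h2]; funext i; simp
  obtain ⟨b, hb⟩ := Cfsg.Agent.S0755.result (σ : F →+* F) (fun h => hne (RingEquiv.ext fun a => RingHom.congr_fun h a))
    hinv B ⟨fun u v => hsym u v⟩ ⟨hsep, fun v hv => hsep v fun w => by rw [← hsym w v, hv w, map_zero]⟩
  let e : ι ≃ Fin (Module.finrank F (ι → F)) := (Fintype.equivFinOfCardEq rfl).trans (finCongr (Module.finrank_pi F).symm)
  let x : Matrix ι ι F := Matrix.of fun i j => b (e j) i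
  have hx : xᵀ * H * x.map σ = 1 := by
    ext i j
    rw [Matrix.mul_assoc, Matrix.mul_apply']
    have : (fun k => (H * x.map σ) k j) = H *ᵥ (σ ∘ (b (e j) : ι → F)) := rfl
    rw [this]
    show (b (e i) : ι → F) ⬝ᵥ _ = _
    rw [← hB, hb]
    simp [Matrix.one_apply, eq_comm]
  have hxd : IsUnit x.det := isUnit_iff_ne_zero.2 fun h0 => by
    have := congrArg Matrix.det hx
    rw [det_mul, det_mul, det_transpose, h0, zero_mul, zero_mul, det_one] at this
    exact zero_ne_one this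
  set y := x⁻¹
  have hxy : x * y = 1 := mul_nonsing_inv x hxd
  have hyx : y * x = 1 := nonsing_inv_mul x hxd
  have hH' : H = yᵀ * y.map σ := by
    calc H = (x * y)ᵀ * H * (x * y).map σ := by
          rw [hxy, Matrix.map_one _ (map_zero σ) (map_one σ), transpose_one, Matrix.one_mul, Matrix.mul_one]
      _ = yᵀ * (xᵀ * H * x.map σ) * y.map σ := by
          rw [transpose_mul, show (x * y).map σ = x.map σ * y.map σ from Matrix.map_mul (f := σ.toRingHom)]
          simp only [Matrix.mul_assoc]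
      _ = _ := by rw [hx, Matrix.mul_one]
  let φ : Matrix ι ι F →* Matrix (Fin n) (Fin n) F :=
    { toFun := fun M => Matrix.reindexAlgEquiv F F (Fintype.equivFinOfCardEq hι) (y * M * x)
      map_one' := by rw [Matrix.mul_one, hyx, map_one]
      map_mul' := fun M N => by
        rw [← map_mul]
        congr 1
        simp only [Matrix.mul_assoc]
        rw [← Matrix.mul_assoc x y, hxy, Matrix.one_mul] }
  have hφ : Function.Injective φ := fun M N h => by
    have h1 := congrArg (fun X => x * X * y) ((Matrix.reindexAlgEquiv F F (Fintype.equivFinOfCardEq hι)).injective h)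
    have e : ∀ X : Matrix ι ι F, x * (y * X * x) * y = X := fun X => by
      simp only [Matrix.mul_assoc, hxy, Matrix.mul_one]
      rw [← Matrix.mul_assoc, hxy, Matrix.one_mul]
    rwa [e, e] at h1
  have hu : IsU σ (1 : Matrix ι ι F) (y * A * x) := by
    show _ = _
    rw [Matrix.mul_one, transpose_mul, transpose_mul,
      show (y * A * x).map σ = y.map σ * A.map σ * x.map σ by
        rw [show (y * A * x).map σ = (y * A).map σ * x.map σ from Matrix.map_mul (f := σ.toRingHom),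
          show (y * A).map σ = y.map σ * A.map σ from Matrix.map_mul (f := σ.toRingHom)]]
    calc xᵀ * (Aᵀ * yᵀ) * (y.map σ * A.map σ * x.map σ) = xᵀ * (Aᵀ * (yᵀ * y.map σ) * A.map σ) * x.map σ := by
          simp only [Matrix.mul_assoc]
      _ = 1 := by rw [← hH', show Aᵀ * H * A.map σ = H from hA, hx]
  have hu' : IsU σ 1 (φ A) := by
    show ((y * A * x).submatrix _ _)ᵀ * 1 * ((y * A * x).submatrix _ _).map σ = 1
    rw [Matrix.mul_one, transpose_submatrix, ← submatrix_map, submatrix_mul_equiv,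
      ← Matrix.mul_one (y * A * x)ᵀ, show _ = (1 : Matrix ι ι F) from hu, submatrix_one_equiv]
  have hdet : (φ A).det = 1 := by
    show ((y * A * x).submatrix _ _).det = 1
    rw [det_submatrix_equiv_self, det_mul_right_comm, hyx, Matrix.one_mul, hd]
  obtain ⟨g, hg⟩ := exists_su hσ (φ A) hdet hu'
  refine ⟨g, ?_⟩
  rw [← orderOf_injective φ hφ A, ← hg]
  exact (orderOf_injective ((slToMat n F).comp (Cfsg.SU n F q).subtype)
    (fun a b h => Subtype.ext (Subtype.ext h)) g).symm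

end Std

end CfsgLib.UnitarySpec
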