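/-
Element orders in PSU(n, q): absorbing a prime dividing q + 1, or bounding by a unipotent element and a torus.
-/
import Cfsg.Agent.Lib.KnownSimple.Unitary.Basic

set_option autoImplicit false

namespace CfsgLib.UnitarySpec

open Matrix Cfsg CfsgLib.Classical Polynomial

variable {F : Type*} [Field F] {n q : ℕ}

/-- The alternating geometric sum `1 - q + q ^ 2 - ⋯`. -/
def altSum (q n : ℕ) : ℤ := ∑ j ∈ Finset.range n, (-(q : ℤ)) ^ j

lemma altSum_mul (q n : ℕ) : altSum q n * (-(q : ℤ) - 1) = (-(q : ℤ)) ^ n - 1 := geom_sum_mul _ _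

lemma altSum_mul' (q n : ℕ) : altSum q n * ((q : ℤ) + 1) = 1 - (-(q : ℤ)) ^ n := by
  linear_combination -altSum_mul q n

lemma qp1_dvd (q k : ℕ) : ((q : ℤ) + 1) ∣ (-(q : ℤ)) ^ k - 1 := by
  have h := sub_dvd_pow_sub_pow (-(q : ℤ)) 1 k
  rw [one_pow] at h
  exact (show ((q : ℤ) + 1) ∣ -(q : ℤ) - 1 from ⟨-1, by ring⟩).trans h

lemma altSum_dvd_sub (q n : ℕ) : ((q : ℤ) + 1) ∣ altSum q n - n := by
  have : altSum q n - n = ∑ j ∈ Finset.range n, ((-(q : ℤ)) ^ j - 1 ^ j) := by
    simp [altSum, Finset.sum_sub_distrib]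
  rw [this]
  refine Finset.dvd_sum fun j _ => ?_
  rw [one_pow]
  exact qp1_dvd q j

lemma altSum_ne_zero (hq : 2 ≤ q) (hn : 1 ≤ n) : altSum q n ≠ 0 := by
  intro h
  have h1 := altSum_mul' q n
  rw [h, zero_mul] at h1
  have h2 : (-(q : ℤ)) ^ n = 1 := by linarith
  have h3 := congrArg Int.natAbs h2
  rw [Int.natAbs_pow, Int.natAbs_neg, Int.natAbs_natCast, Int.natAbs_one] at h3
  rcases Nat.pow_eq_one.1 h3 with h4 | h4 <;> omega

/-- The order of the torus element in `PSU`. -/
def torusN (q n : ℕ) : ℕ := (altSum q n).natAbs / Nat.gcd n (q + 1)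

lemma gcd_dvd_altSum (q n : ℕ) : Nat.gcd n (q + 1) ∣ (altSum q n).natAbs := by
  rw [← Int.natCast_dvd]
  have h1 : (Nat.gcd n (q + 1) : ℤ) ∣ (q : ℤ) + 1 := by exact_mod_cast Nat.gcd_dvd_right n (q + 1)
  have h2 : (Nat.gcd n (q + 1) : ℤ) ∣ (n : ℤ) := by exact_mod_cast Nat.gcd_dvd_left n (q + 1)
  simpa using (h1.trans (altSum_dvd_sub q n)).add h2

lemma torusN_mul (q n : ℕ) : torusN q n * Nat.gcd n (q + 1) = (altSum q n).natAbs :=
  Nat.div_mul_cancel (gcd_dvd_altSum q n)

lemma torusN_coprime {p a : ℕ} (hp : p.Prime) (ha : 1 ≤ a) (hq : q = p ^ a) (hn : 1 ≤ n) :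
    (torusN q n).Coprime p := by
  refine Nat.Coprime.coprime_dvd_left ⟨_, (torusN_mul q n).symm⟩ (Nat.Coprime.symm ((hp.coprime_iff_not_dvd).2 ?_))
  intro h
  have h1 : (p : ℤ) ∣ altSum q n := Int.natCast_dvd.2 h
  have h2 : (p : ℤ) ∣ (-(q : ℤ)) ^ n := dvd_pow ((dvd_neg).2 (by rw [hq]; push_cast; exact dvd_pow_self _ (by omega))) (by omega)
  have h3 := dvd_add (h1.mul_right ((q : ℤ) + 1)) h2
  rw [altSum_mul', sub_add_cancel] at h3
  exact hp.ne_one (Nat.dvd_one.1 (by exact_mod_cast h3))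

section Field

variable [Fintype F] (hF : Fintype.card F = q ^ 2) {σ : F ≃+* F} (hσ : ∀ a, σ a = a ^ q)

include hF hσ in
lemma sigma_sigma (a : F) : σ (σ a) = a := by rw [hσ, hσ, pow_q_q hF]

include hF hσ in
lemma sigma_ne : σ ≠ RingEquiv.refl F := by
  obtain ⟨τ, hτ, -, hne⟩ := exists_qPow hF
  intro h
  exact hne (RingHom.ext fun a => by rw [hτ, ← hσ, h]; rfl)

include hF in
lemma exists_primitive {r : ℕ} (hr : r.Prime) (hrq : r ∣ q + 1) : ∃ ζ : F, orderOf ζ = r := by
  haveI : Fact r.Prime := ⟨hr⟩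
  have h : r ∣ Nat.card Fˣ := by
    rw [Nat.card_units, Nat.card_eq_fintype_card, hF, show q ^ 2 - 1 = (q + 1) * (q - 1) by
      rw [← Nat.sq_sub_sq, one_pow]]
    exact hrq.mul_right _
  obtain ⟨u, hu⟩ := exists_prime_orderOf_dvd_card' r h
  exact ⟨(u : F), by rw [orderOf_units, hu]⟩

include hF hσ in
/-- A self-adjoint idempotent in the centraliser absorbs the prime `r`. -/
lemma exists_absorb (hn : 2 ≤ n) {r : ℕ} (hr : r.Prime) (hrq : r ∣ q + 1) (hrn : ¬ r ∣ n)
    (g : Cfsg.SU n F q) (e : Matrix (Fin n) (Fin n) F) (he : IsIdempotentElem e) (hadj : adj σ e = e)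
    (he0 : e ≠ 0) (he1 : e ≠ 1) (hcomm : Commute e (g.1 : Matrix (Fin n) (Fin n) F)) :
    ∃ y : Cfsg.PSU n F q, (orderOf (psuMk g)).lcm r ∣ orderOf y := by
  haveI : Nonempty (Fin n) := ⟨⟨0, by omega⟩⟩
  obtain ⟨c, hco⟩ := exists_primitive hF hr hrq
  have hcr : c ^ r = 1 := by rw [← hco, pow_orderOf_eq_one]
  have hc0 : c ≠ 0 := by rintro rfl; rw [zero_pow hr.ne_zero] at hcr; exact zero_ne_one hcr
  have hc1 : c - 1 ≠ 0 := fun h => hr.ne_one (by rw [← hco, sub_eq_zero.1 h, orderOf_one])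
  have hcq : σ c * c = 1 := by
    obtain ⟨k, hk⟩ := hrq
    rw [hσ, ← pow_succ, hk, pow_mul, hcr, one_pow]
  set z := (1 : Matrix (Fin n) (Fin n) F) + (c - 1) • e with hz
  have hzpow : ∀ k : ℕ, z ^ k = 1 + (c ^ k - 1) • e := by
    intro k
    induction k with
    | zero => simp
    | succ k ih =>
      rw [pow_succ, ih, hz, add_mul, one_mul, mul_add, mul_one, smul_mul_smul_comm, he.eq, add_assoc,
        ← add_smul, ← add_smul]
      congr 2
      rw [pow_succ]; ring
  have hzr : z ^ r = 1 := by rw [hzpow, hcr, sub_self, zero_smul, add_zero]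
  have hdz : z.det ^ r = 1 := by rw [← Matrix.det_pow, hzr, Matrix.det_one]
  haveI : NeZero r := ⟨hr.ne_zero⟩
  haveI : Fact r.Prime := ⟨hr⟩
  obtain ⟨j, hj, hjz⟩ := (IsPrimitiveRoot.iff_orderOf.2 hco).eq_pow_of_pow_eq_one hdz
  obtain ⟨t, ht⟩ : ∃ t : ℕ, r ∣ t * n + j := by
    refine ⟨(-(j : ZMod r) / (n : ZMod r)).val, ?_⟩
    have hn0 : (n : ZMod r) ≠ 0 := fun h => hrn ((ZMod.natCast_eq_zero_iff n r).1 h)
    rw [← ZMod.natCast_eq_zero_iff]
    push_cast
    rw [ZMod.natCast_zmod_val, div_mul_cancel₀ _ hn0, neg_add_cancel]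
  have hdet : (c ^ t • z).det = 1 := by
    obtain ⟨k, hk⟩ := ht
    rw [Matrix.det_smul, Fintype.card_fin, ← pow_mul, ← hjz, ← pow_add, hk, pow_mul, hcr, one_pow]
  have hu : IsU σ 1 (c ^ t • z) := by
    rw [isU_one_iff (sigma_sigma hF hσ), adj_smul, hz, adj_add, adj_one, adj_smul, hadj, map_sub, map_one,
      smul_mul_smul_comm, map_pow, ← mul_pow, hcq, one_pow, one_smul, add_mul, one_mul, mul_add, mul_one,
      smul_mul_smul_comm, he.eq, add_assoc, ← add_smul, ← add_smul,
      show c - 1 + (σ c - 1 + (σ c - 1) * (c - 1)) = 0 by linear_combination hcq, zero_smul, add_zero]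
  obtain ⟨w, hw⟩ := exists_su hσ _ hdet hu
  have hwo : orderOf (psuMk w) = r := by
    refine orderOf_eq_prime ?_ ?_
    · exact psuMk_pow_eq_one_of w r (c := (c ^ t) ^ r) (by rw [hw, _root_.smul_pow, hzr])
    · intro h
      obtain ⟨d, hd, -, -⟩ := exists_of_psuMk_pow_eq_one hF hn hσ w 1 (by rw [pow_one]; exact h)
      rw [pow_one, hw] at hd
      have hct : c ^ t ≠ 0 := pow_ne_zero _ hc0
      have hz' : z = (d / c ^ t) • 1 := by
        rw [div_eq_inv_mul, mul_smul, ← hd, smul_smul, inv_mul_cancel₀ hct, one_smul]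
      have hes : e = ((c - 1)⁻¹ * (d / c ^ t - 1)) • 1 := by
        rw [mul_smul, sub_smul, ← hz', one_smul, hz, add_sub_cancel_left, smul_smul,
          inv_mul_cancel₀ hc1, one_smul]
      set a := (c - 1)⁻¹ * (d / c ^ t - 1)
      have ha : a * a = a := by
        have := congrFun (congrFun he.eq ⟨0, by omega⟩) ⟨0, by omega⟩
        rw [hes, smul_mul_smul_comm, one_mul] at this
        simpa using this
      rcases IsIdempotentElem.iff_eq_zero_or_one.1 (ha : IsIdempotentElem a) with h0 | h0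
      all_goals first
        | exact he1 (by rw [hes, h0, one_smul])
        | exact he0 (by rw [hes, h0, zero_smul])
  have hcomm' : Commute (psuMk g) (psuMk w) := by
    refine Commute.map ?_ _
    refine Subtype.ext (Subtype.ext ?_)
    show (g.1 : Matrix (Fin n) (Fin n) F) * (w.1 : Matrix (Fin n) (Fin n) F) = w.1 * g.1
    rw [hw, hz]
    exact ((((Commute.one_left _).add_left (hcomm.smul_left _)).smul_left _).eq).symm
  by_cases hra : r ∣ orderOf (psuMk g)
  · exact ⟨psuMk g, Nat.lcm_dvd dvd_rfl hra⟩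
  · refine ⟨psuMk g * psuMk w, ?_⟩
    have hcop : (orderOf (psuMk g)).Coprime (orderOf (psuMk w)) := by
      rw [hwo]; exact ((hr.coprime_iff_not_dvd).2 hra).symm
    rw [hcomm'.orderOf_mul_eq_mul_orderOf_of_coprime hcop, hwo]
    exact Nat.lcm_dvd (dvd_mul_right _ _) (dvd_mul_left _ _)

end Field

lemma roots_charpoly_inv {K : Type*} [Field K] [IsAlgClosed K] {ι : Type*} [Fintype ι] [DecidableEq ι]
    (M : Matrix ι ι K) (hM : M.det ≠ 0) :
    (M⁻¹).charpoly.roots = M.charpoly.roots.map fun x => x⁻¹ := by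
  have h1 : M.charpolyRev.roots = M.charpoly.roots.map fun x => x⁻¹ := by
    rw [← Matrix.reverse_charpoly]
    have hs : ∀ s : Multiset K, (∀ a ∈ s, a ≠ 0) →
        (s.map fun a => X - Polynomial.C a).prod.reverse.roots = s.map (fun x => x⁻¹) ∧
          (s.map fun a => X - Polynomial.C a).prod.reverse ≠ 0 := by
      intro s
      induction s using Multiset.induction_on with
      | empty => intro _; simp [Polynomial.reverse]
      | cons a s ih =>
        intro h
        obtain ⟨ih1, ih2⟩ := ih fun b hb => h b (Multiset.mem_cons_of_mem hb)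
        have ha := h a (Multiset.mem_cons_self a s)
        have hr : (X - Polynomial.C a : K[X]).reverse = Polynomial.C (-a) * (X - Polynomial.C a⁻¹) := by
          rw [Polynomial.reverse, natDegree_X_sub_C, mul_sub, ← Polynomial.C_mul, neg_mul, mul_inv_cancel₀ ha]
          ext k
          rcases k with _ | _ | k <;> simp [coeff_reflect, revAt, coeff_X, coeff_C, coeff_one]
        rw [Multiset.map_cons, Multiset.prod_cons, reverse_mul_of_domain, hr]
        have hne : Polynomial.C (-a) * (X - Polynomial.C a⁻¹) ≠ 0 :=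
          mul_ne_zero (by simpa using ha) (X_sub_C_ne_zero _)
        refine ⟨?_, mul_ne_zero hne ih2⟩
        rw [roots_mul (mul_ne_zero hne ih2), roots_C_mul _ (neg_ne_zero.2 ha), roots_X_sub_C, ih1, Multiset.map_cons,
          Multiset.singleton_add]
    conv_lhs => rw [(IsAlgClosed.splits M.charpoly).eq_prod_roots_of_monic M.charpoly_monic]
    refine (hs _ fun a ha h0 => hM ?_).1
    rw [det_eq_prod_roots_charpoly]
    exact Multiset.prod_eq_zero (h0 ▸ ha)
  rw [Matrix.charpoly_inv M ((Matrix.isUnit_iff_isUnit_det M).2 (isUnit_iff_ne_zero.2 hM))]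
  rw [show ((-1 : K[X]) ^ Fintype.card ι * Polynomial.C (Ring.inverse M.det)) =
      Polynomial.C ((-1) ^ Fintype.card ι * Ring.inverse M.det) by simp, roots_C_mul _ ?_, h1]
  rw [Ring.inverse_eq_inv']
  exact mul_ne_zero (pow_ne_zero _ (by simp)) (inv_ne_zero hM)

section Roots

variable {K : Type*} [Field K] [IsAlgClosed K] [Algebra F K]

omit [IsAlgClosed K] in
lemma mem_range_of_pow_card [Fintype F] (x : K) (hx : x ^ Fintype.card F = x) : x ∈ Set.range (algebraMap F K) := by
  classical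
  by_contra hc
  have h1 : 1 < Fintype.card F := Fintype.one_lt_card
  have hne : (X ^ Fintype.card F - X : K[X]) ≠ 0 := FiniteField.X_pow_card_sub_X_ne_zero K h1
  have hsub : insert x (Finset.univ.image (algebraMap F K)) ⊆ (X ^ Fintype.card F - X : K[X]).roots.toFinset := by
    intro y hy
    rw [Multiset.mem_toFinset, mem_roots hne, IsRoot, eval_sub, eval_pow, eval_X, sub_eq_zero]
    rcases Finset.mem_insert.1 hy with rfl | hy
    · exact hx
    · obtain ⟨b, -, rfl⟩ := Finset.mem_image.1 hy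
      rw [← map_pow, FiniteField.pow_card]
  have h2 := Finset.card_le_card hsub
  rw [Finset.card_insert_of_notMem (by simpa using fun b h => hc ⟨b, h⟩),
    Finset.card_image_of_injective _ (algebraMap F K).injective, Finset.card_univ] at h2
  have h3 := ((Multiset.toFinset_card_le _).trans (card_roots' (X ^ Fintype.card F - X : K[X]))).trans
    (FiniteField.X_pow_card_sub_X_natDegree_eq K h1).le
  omega

omit [IsAlgClosed K] in
lemma eval_root_of_aeval_eq_zero (A : Matrix (Fin n) (Fin n) F) (h : F[X]) (hA : Polynomial.aeval A h = 0)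
    {x : K} (hx : (A.map (algebraMap F K)).charpoly.IsRoot x) : Polynomial.aeval x h = 0 := by
  haveI : Nonempty (Fin n) := by
    by_contra hc
    rw [not_nonempty_iff] at hc
    simp [IsRoot, charpoly_isEmpty] at hx
  have h1 := spectrum.subset_polynomial_aeval (A.map (algebraMap F K)) (h.map (algebraMap F K))
    ⟨x, Matrix.mem_spectrum_iff_isRoot_charpoly.2 hx, rfl⟩
  have h2 : Polynomial.aeval (A.map (algebraMap F K)) (h.map (algebraMap F K)) = 0 := by
    rw [Polynomial.aeval_map_algebraMap,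
      show A.map (algebraMap F K) = (Algebra.ofId F K).mapMatrix A from rfl, aeval_algHom_apply, hA, map_zero]
  rw [h2, spectrum.zero_eq, Set.mem_singleton_iff] at h1
  simp only [eval_map_algebraMap] at h1
  exact h1

lemma aeval_pow_eq_zero_of_roots (A : Matrix (Fin n) (Fin n) F) (h : F[X])
    (hh : ∀ x ∈ (A.map (algebraMap F K)).charpoly.roots, Polynomial.aeval x h = 0) :
    Polynomial.aeval A h ^ n = 0 := by
  have hs : ∀ s : Multiset K, (∀ x ∈ s, Polynomial.aeval x h = 0) →
      (s.map fun a => X - Polynomial.C a).prod ∣ (h.map (algebraMap F K)) ^ Multiset.card s := by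
    intro s
    induction s using Multiset.induction_on with
    | empty => intro _; simp
    | cons a s ih =>
      intro hs
      rw [Multiset.map_cons, Multiset.prod_cons, Multiset.card_cons, pow_succ']
      refine mul_dvd_mul ?_ (ih fun b hb => hs b (Multiset.mem_cons_of_mem hb))
      rw [dvd_iff_isRoot, IsRoot, eval_map_algebraMap]
      exact hs a (Multiset.mem_cons_self a s)
  have h1 := hs _ hh
  rw [← (IsAlgClosed.splits _).eq_prod_roots_of_monic (Matrix.charpoly_monic _),
    IsAlgClosed.card_roots_eq_natDegree, Matrix.charpoly_natDegree_eq_dim, Fintype.card_fin,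
    Matrix.charpoly_map, ← Polynomial.map_pow, Polynomial.map_dvd_map' (algebraMap F K)] at h1
  rw [← map_pow]
  obtain ⟨k, hk⟩ := h1
  rw [hk, map_mul, Matrix.aeval_self_charpoly, zero_mul]

end Roots

omit F n q in
lemma eq_of_idempotent_sub_nilpotent {R : Type*} [Ring R] {e f : R} (he : IsIdempotentElem e)
    (hf : IsIdempotentElem f) (hc : Commute e f) (hn : IsNilpotent (e - f)) : e = f := by
  have h3 : (e - f) ^ 3 = e - f := by
    have hef : e * (e * f) = e * f := by rw [← mul_assoc, he.eq]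
    have hfef : f * (e * f) = e * f := by rw [← mul_assoc, ← hc.eq, mul_assoc, hf.eq]
    simp only [pow_succ, pow_zero, one_mul, sub_mul, mul_sub, he.eq, hf.eq, ← hc.eq, mul_assoc, hef, hfef]
    abel
  have hk : ∀ k, (e - f) ^ (2 * k + 1) = e - f := by
    intro k
    induction k with
    | zero => simp
    | succ k ih =>
      rw [show 2 * (k + 1) + 1 = 2 * k + 1 + 2 by ring, pow_add, ih, ← pow_succ' (e - f) 2]
      exact h3
  obtain ⟨k, hk0⟩ := hn
  rw [← sub_eq_zero, ← hk k]
  exact pow_eq_zero_of_le (by omega) hk0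

section Main

variable [Fintype F] (hF : Fintype.card F = q ^ 2) {σ : F ≃+* F} (hσ : ∀ a, σ a = a ^ q)

include hF hσ in
/-- The dichotomy behind the spectrum of `PSU(n, q)`. -/
lemma psu_classify {p a : ℕ} (hp : p.Prime) (hq : q = p ^ a) (hn : 2 ≤ n) {r : ℕ} (hr : r.Prime) (hrq : r ∣ q + 1)
    (hrn : ¬ r ∣ n) (g : Cfsg.SU n F q) :
    (∃ y : Cfsg.PSU n F q, (orderOf (psuMk g)).lcm r ∣ orderOf y) ∨
      orderOf (psuMk g) ∣ p ^ Nat.clog p n * torusN q n := by
  classical
  haveI : Fact p.Prime := ⟨hp⟩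
  haveI : Nonempty (Fin n) := ⟨⟨0, by omega⟩⟩
  haveI : CharP F p := charP_of_card_eq_prime_pow (f := a * 2) (by rw [hF, hq, ← pow_mul])
  haveI : ExpChar F p := ExpChar.prime hp
  set K := AlgebraicClosure F
  haveI : CharP K p := charP_of_injective_algebraMap (algebraMap F K).injective p
  haveI : ExpChar K p := ExpChar.prime hp
  set A := (g.1 : Matrix (Fin n) (Fin n) F) with hA
  have hd : A.det = 1 := g.1.2
  have hu : IsU σ 1 A := (mem_SU_iff hσ _).1 g.2
  have hadjA : adj σ A * A = 1 := (isU_one_iff (sigma_sigma hF hσ) A).1 hu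
  set Ak := A.map (algebraMap F K) with hAk
  set Λ := Ak.charpoly.roots with hΛdef
  have hcard : Multiset.card Λ = n := by
    rw [hΛdef, IsAlgClosed.card_roots_eq_natDegree, Matrix.charpoly_natDegree_eq_dim, Fintype.card_fin]
  have hprod : Λ.prod = 1 := by
    rw [hΛdef, ← det_eq_prod_roots_charpoly, hAk]
    show ((algebraMap F K).mapMatrix A).det = 1
    rw [← RingHom.map_det, hd, map_one]
  have hne : ∀ x ∈ Λ, x ≠ 0 := fun x hx h0 => by
    rw [Multiset.prod_eq_zero (h0 ▸ hx)] at hprod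
    exact zero_ne_one hprod
  have hmem : ∀ x ∈ Λ, Ak.charpoly.IsRoot x := fun x hx => isRoot_of_mem_roots hx
  let ψ : K →+* K := iterateFrobenius K p a
  have hψ : ∀ x : K, ψ x = x ^ q := fun x => by rw [iterateFrobenius_def, hq]
  have hψinj : Function.Injective ψ := ψ.injective
  have hψσ : ∀ c : F, algebraMap F K (σ c) = ψ (algebraMap F K c) := fun c => by rw [hσ, map_pow, hψ]
  let τ : K → K := fun x => (x ^ q)⁻¹
  have hτinj : Function.Injective τ := fun x y h => hψinj (by rw [hψ, hψ]; exact inv_injective h)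
  have hinv : Λ.map τ = Λ := by
    have h1 : Aᵀ * A.map σ = 1 := by rw [← Matrix.mul_one Aᵀ]; exact hu
    have h1' : Akᵀ * Ak.map ψ = 1 := by
      have h2 := congrArg (fun M : Matrix (Fin n) (Fin n) F => M.map (algebraMap F K)) h1
      rw [Matrix.map_mul (f := algebraMap F K), Matrix.map_one _ (map_zero _) (map_one _)] at h2
      rw [← h2, hAk, transpose_map, Matrix.map_map, Matrix.map_map]
      congr 2
      funext c
      exact (hψσ c).symm
    have hdk : Ak.det ≠ 0 := by
      rw [det_eq_prod_roots_charpoly, ← hΛdef, hprod]; exact one_ne_zero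
    have h3 : Ak.map ψ = (Ak⁻¹)ᵀ := by rw [transpose_nonsing_inv, Matrix.inv_eq_right_inv h1']
    have h4 : (Ak.map ψ).charpoly.roots = Λ.map ψ := by
      rw [Matrix.charpoly_map, (IsAlgClosed.splits Ak.charpoly).roots_map]
    rw [h3, charpoly_transpose, roots_charpoly_inv Ak hdk, ← hΛdef] at h4
    have h5 := congrArg (Multiset.map fun x : K => x⁻¹) h4
    rw [Multiset.map_map, Multiset.map_map] at h5
    calc Λ.map τ = Λ.map ((fun x => x⁻¹) ∘ ψ) := Multiset.map_congr rfl fun x _ => by simp [τ, hψ]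
      _ = Λ.map ((fun x => x⁻¹) ∘ fun x => x⁻¹) := h5.symm
      _ = Λ := (Multiset.map_congr rfl fun x _ => inv_inv x).trans (Multiset.map_id' Λ)
  have hτmem : ∀ x, x ∈ Λ → τ x ∈ Λ := fun x hx => hinv ▸ Multiset.mem_map_of_mem τ hx
  have hcount : ∀ x, Λ.count (τ x) = Λ.count x := fun x => by
    conv_lhs => rw [← hinv]
    exact Multiset.count_map_eq_count' τ Λ hτinj x
  obtain ⟨l, hl⟩ : ∃ l, l ∈ Λ := Multiset.exists_mem_of_ne_zero fun h => by
    rw [h] at hcard; simp at hcard; omega
  have hiter : ∀ j, τ^[j] l ∈ Λ := by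
    intro j
    induction j with
    | zero => exact hl
    | succ j ih => rw [Function.iterate_succ_apply']; exact hτmem _ ih
  obtain ⟨d, hd0, hdl⟩ : ∃ d, 0 < d ∧ τ^[d] l = l := by
    obtain ⟨i, j, hij, he⟩ := Finite.exists_ne_map_eq_of_infinite (fun j : ℕ => (⟨τ^[j] l, Multiset.mem_toFinset.2 (hiter j)⟩ : Λ.toFinset))
    have he' : τ^[i] l = τ^[j] l := congrArg Subtype.val he
    rcases lt_or_gt_of_ne hij with h | h
    · exact ⟨j - i, by omega, (hτinj.iterate i) (by rw [← Function.iterate_add_apply, show i + (j - i) = j by omega, he'])⟩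
    · exact ⟨i - j, by omega, (hτinj.iterate j) (by rw [← Function.iterate_add_apply, show j + (i - j) = i by omega, he'])⟩
  set d₀ := Function.minimalPeriod τ l with hd₀def
  have hd₀ : 0 < d₀ := Function.IsPeriodicPt.minimalPeriod_pos hd0 hdl
  have hper : τ^[d₀] l = l := Function.iterate_minimalPeriod
  set O := (Finset.range d₀).image fun j => τ^[j] l with hOdef
  have hOinj : Set.InjOn (fun j => τ^[j] l) (Finset.range d₀ : Set ℕ) := fun i hi j hj h =>
    Function.iterate_injOn_Iio_minimalPeriod (by simpa using hi) (by simpa using hj) h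
  have hOall : ∀ j, τ^[j] l ∈ O := fun j =>
    Finset.mem_image.2 ⟨j % d₀, Finset.mem_range.2 (Nat.mod_lt _ hd₀), Function.iterate_mod_minimalPeriod_eq⟩
  have hτO : ∀ x ∈ O, τ x ∈ O := by
    intro x hx
    obtain ⟨j, -, rfl⟩ := Finset.mem_image.1 hx
    rw [← Function.iterate_succ_apply' τ j]
    exact hOall _
  have hτO' : ∀ x ∈ O, ∃ y ∈ O, τ y = x := by
    intro x hx
    obtain ⟨j, -, rfl⟩ := Finset.mem_image.1 hx
    refine ⟨_, hOall (j + (d₀ - 1)), ?_⟩
    rw [← Function.iterate_succ_apply' τ, show (j + (d₀ - 1)).succ = j + d₀ by omega, Function.iterate_add_apply, hper]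
  have hOΛ : ∀ x ∈ O, x ∈ Λ := by
    intro x hx
    obtain ⟨j, -, rfl⟩ := Finset.mem_image.1 hx
    exact hiter j
  by_cases hex : ∃ x ∈ Λ, x ∉ O
  · obtain ⟨x₀, hx₀, hx₀O⟩ := hex
    left
    let ρ : K →+* K := iterateFrobenius K p (a * 2)
    have hρ : ∀ x : K, ρ x = τ (τ x) := fun x => by
      rw [iterateFrobenius_def]
      show x ^ p ^ (a * 2) = ((((x ^ q)⁻¹) ^ q))⁻¹
      rw [inv_pow, inv_inv, ← pow_mul, hq, ← pow_add, mul_two]
    have hlift : ∀ S : Finset K, (∀ x ∈ S, τ x ∈ S) → ∃ P : F[X], P.map (algebraMap F K) = ∏ x ∈ S, (X - Polynomial.C x) := by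
      intro S hS
      rw [← Polynomial.mem_lifts, Polynomial.lifts_iff_coeff_lifts]
      intro k
      refine mem_range_of_pow_card _ ?_
      have him : S.image ρ = S := Finset.eq_of_subset_of_card_le
        (fun y hy => by obtain ⟨x, hx, rfl⟩ := Finset.mem_image.1 hy; rw [hρ]; exact hS _ (hS _ hx))
        (by rw [Finset.card_image_of_injective _ ρ.injective])
      have hmap : (∏ x ∈ S, (X - Polynomial.C x)).map ρ = ∏ x ∈ S, (X - Polynomial.C x) := by
        conv_rhs => rw [← him, Finset.prod_image (ρ.injective.injOn)]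
        rw [Polynomial.map_prod]
        simp
      have h := congrArg (fun P : K[X] => P.coeff k) hmap
      simp only [coeff_map] at h
      rw [hF, hq, ← pow_mul, ← iterateFrobenius_def]
      exact h
    obtain ⟨P₁, hP₁⟩ := hlift O hτO
    obtain ⟨P₂, hP₂⟩ := hlift (Λ.toFinset \ O) (fun x hx => by
      rw [Finset.mem_sdiff, Multiset.mem_toFinset] at hx ⊢
      refine ⟨hτmem x hx.1, fun h => hx.2 ?_⟩
      obtain ⟨y, hy, hyx⟩ := hτO' _ h
      exact hτinj hyx ▸ hy)
    have hcop : IsCoprime P₁ P₂ := by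
      rw [← Polynomial.isCoprime_map (algebraMap F K), hP₁, hP₂]
      refine IsCoprime.prod_left fun x hx => IsCoprime.prod_right fun y hy => ?_
      exact isCoprime_X_sub_C_of_isUnit_sub (isUnit_iff_ne_zero.2 (sub_ne_zero.2 fun h =>
        (Finset.mem_sdiff.1 hy).2 (h ▸ hx)))
    obtain ⟨u, v, huv⟩ := (hcop.pow (m := n) (n := n))
    set h := u * P₁ ^ n with hhdef
    have hev1 : ∀ x ∈ O, Polynomial.aeval x P₁ = 0 := fun x hx => by
      rw [← eval_map_algebraMap, hP₁, eval_prod]
      exact Finset.prod_eq_zero hx (by simp)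
    have hev2 : ∀ x ∈ Λ, x ∉ O → Polynomial.aeval x P₂ = 0 := fun x hx hxO => by
      rw [← eval_map_algebraMap, hP₂, eval_prod]
      exact Finset.prod_eq_zero (Finset.mem_sdiff.2 ⟨Multiset.mem_toFinset.2 hx, hxO⟩) (by simp)
    have hv0 : ∀ x ∈ O, Polynomial.aeval x h = 0 := fun x hx => by
      rw [hhdef, map_mul, map_pow, hev1 x hx, zero_pow (by omega), mul_zero]
    have hv1 : ∀ x ∈ Λ, x ∉ O → Polynomial.aeval x h = 1 := fun x hx hxO => by
      have := congrArg (Polynomial.aeval x) huv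
      rwa [map_add, map_mul (Polynomial.aeval x) v, map_pow, hev2 x hx hxO, zero_pow (by omega), mul_zero, add_zero, map_one] at this
    set e := Polynomial.aeval A h with he
    have hkill : Polynomial.aeval A ((P₁ * P₂) ^ n) = 0 := by
      rw [map_pow]
      refine aeval_pow_eq_zero_of_roots (K := K) A _ fun x hx => ?_
      rw [map_mul]
      by_cases hxO : x ∈ O
      · rw [hev1 x hxO, zero_mul]
      · rw [hev2 x hx hxO, mul_zero]
    have hei : IsIdempotentElem e := by
      rw [IsIdempotentElem, he, ← sub_eq_zero, ← map_mul, ← map_sub]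
      rw [show h * h - h = -(u * v) * (P₁ * P₂) ^ n by rw [hhdef, mul_pow]; linear_combination (u * P₁ ^ n) * huv,
        map_mul, hkill, mul_zero]
    have he0 : e ≠ 0 := fun h0 => one_ne_zero (α := K) (by
      rw [← hv1 x₀ hx₀ hx₀O]; exact eval_root_of_aeval_eq_zero A h h0 (hmem _ hx₀))
    have he1 : e ≠ 1 := fun h1 => one_ne_zero (α := K) (by
      have := eval_root_of_aeval_eq_zero (K := K) A (h - 1) (by rw [map_sub, ← he, h1, map_one, sub_self]) (hmem _ hl)
      rw [map_sub, hv0 l (hOall 0), map_one, zero_sub, neg_eq_zero] at this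
      exact this)
    obtain ⟨k, hk⟩ : ∃ k, orderOf g = k + 1 := ⟨_, (Nat.succ_pred_eq_of_pos (orderOf_pos g)).symm⟩
    have hAord : A ^ (k + 1) = 1 := by rw [hA, ← su_coe_pow, ← hk, pow_orderOf_eq_one]; rfl
    have hadjAk : adj σ A = A ^ k := by
      calc adj σ A = adj σ A * (A * A ^ k) := by rw [← pow_succ', hAord, mul_one]
        _ = A ^ k := by rw [← mul_assoc, hadjA, one_mul]
    have hadjh : ∀ P : F[X], adj σ (Polynomial.aeval A P) = Polynomial.aeval A ((P.map (σ : F →+* F)).comp (X ^ k)) := by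
      intro P
      induction P using Polynomial.induction_on' with
      | add P Q hP hQ => rw [map_add, adj_add, hP, hQ, Polynomial.map_add, add_comp, map_add]
      | monomial i c =>
        rw [← C_mul_X_pow_eq_monomial, Polynomial.map_mul, Polynomial.map_pow, map_X, map_C, mul_comp, C_comp,
          pow_comp, X_comp, map_mul, map_mul, aeval_C, aeval_C, map_pow, map_pow, aeval_X, map_pow, aeval_X,
          Algebra.algebraMap_eq_smul_one, Algebra.algebraMap_eq_smul_one, smul_one_mul, smul_one_mul, adj_smul,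
          adj_pow, hadjAk]
        rfl
    have hadj : adj σ e = e := by
      refine eq_of_idempotent_sub_nilpotent ?_ hei ?_ ⟨n, ?_⟩
      · show _ = _
        rw [← adj_mul, hei.eq]
      · rw [he, hadjh]; exact (Commute.all _ _).map (Polynomial.aeval A)
      · rw [he, hadjh, ← map_sub]
        refine aeval_pow_eq_zero_of_roots (K := K) A _ fun x hx => ?_
        rw [map_sub, aeval_comp, map_pow, aeval_X, sub_eq_zero]
        have hxk : x ^ (k + 1) = 1 := by
          have := eval_root_of_aeval_eq_zero (K := K) A (X ^ (k + 1) - 1)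
            (by rw [map_sub, map_pow, aeval_X, hAord, map_one, sub_self]) (hmem _ hx)
          rwa [map_sub, map_pow, aeval_X, map_one, sub_eq_zero] at this
        obtain ⟨μ, hμ, hμx⟩ : ∃ μ ∈ Λ, τ μ = x := by
          have hx' : x ∈ Λ.map τ := hinv.symm ▸ hx
          exact Multiset.mem_map.1 hx'
        have hx' : x ^ k = ψ μ := by
          rw [hψ]
          have h1 : x * μ ^ q = 1 := by
            rw [← hμx]; exact inv_mul_cancel₀ (pow_ne_zero _ (hne _ hμ))
          calc x ^ k = x ^ k * (x * μ ^ q) := by rw [h1, mul_one]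
            _ = μ ^ q := by rw [← mul_assoc, ← pow_succ, hxk, one_mul]
        have hψe : Polynomial.aeval (ψ μ) (h.map (σ : F →+* F)) = ψ (Polynomial.aeval μ h) := by
          rw [aeval_def, eval₂_map, aeval_def, hom_eval₂]
          congr 1
          exact RingHom.ext hψσ
        rw [hx', hψe]
        by_cases hxO : x ∈ O
        · have hμO : μ ∈ O := by
            obtain ⟨y, hy, hyx⟩ := hτO' x hxO
            exact hτinj (hyx.trans hμx.symm) ▸ hy
          rw [hv0 x hxO, hv0 μ hμO, map_zero]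
        · have hμO : μ ∉ O := fun h' => hxO (hμx ▸ hτO μ h')
          rw [hv1 x hx hxO, hv1 μ hμ hμO, map_one]
    refine exists_absorb hF hσ hn hr hrq hrn g e hei hadj he0 he1 ?_
    have hc := (Commute.all h X).map (Polynomial.aeval A)
    rwa [aeval_X] at hc
  push Not at hex
  right
  set m := Λ.count l with hm
  have hΛO : Λ = m • O.val := by
    ext x
    rw [Multiset.count_nsmul]
    by_cases hx : x ∈ O
    · rw [Multiset.count_eq_one_of_mem O.nodup hx, mul_one]
      obtain ⟨j, -, rfl⟩ := Finset.mem_image.1 hx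
      clear hx
      induction j with
      | zero => rfl
      | succ j ih => rw [Function.iterate_succ_apply', hcount]; exact ih
    · rw [Multiset.count_eq_zero.2 (fun h => hx (hex x h)), Multiset.count_eq_zero.2 hx, mul_zero]
  have hnmd : m * d₀ = n := by
    rw [← hcard, hΛO, Multiset.card_nsmul]
    congr 1
    show d₀ = O.card
    rw [hOdef, Finset.card_image_of_injOn hOinj, Finset.card_range]
  let L : Kˣ := Units.mk0 l (hne l hl)
  have hτj : ∀ j, τ^[j] l = ((L ^ ((-(q : ℤ)) ^ j) : Kˣ) : K) := by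
    intro j
    induction j with
    | zero => simp [L]
    | succ j ih =>
      rw [Function.iterate_succ_apply', ih, pow_succ (-(q : ℤ)) j, _root_.zpow_mul, _root_.zpow_neg, zpow_natCast,
        Units.val_inv_eq_inv_val, Units.val_pow_eq_pow_val]
  have hL1 : L ^ ((-(q : ℤ)) ^ d₀ - 1) = 1 := by
    have : L ^ ((-(q : ℤ)) ^ d₀) = L := Units.ext (by rw [← hτj, hper]; rfl)
    rw [_root_.zpow_sub, this, zpow_one, mul_inv_cancel]
  have hL2 : L ^ ((m : ℤ) * altSum q d₀) = 1 := by
    rw [mul_comm, _root_.zpow_mul, zpow_natCast]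
    refine Units.ext ?_
    rw [Units.val_pow_eq_pow_val, Units.val_one]
    have hs : ∀ N, ((L ^ altSum q N : Kˣ) : K) = ∏ j ∈ Finset.range N, τ^[j] l := by
      intro N
      induction N with
      | zero => simp [altSum]
      | succ N ih =>
        rw [Finset.prod_range_succ, ← ih, hτj, altSum, Finset.sum_range_succ, _root_.zpow_add, Units.val_mul]
        rfl
    rw [hs, ← hprod]
    conv_rhs => rw [hΛO, Multiset.prod_nsmul, Finset.prod_val O, hOdef, Finset.prod_image hOinj]
    rfl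
  set g1 := Int.gcd ((q : ℤ) + 1) m with hg1def
  have hL3 : L ^ ((g1 : ℤ) * altSum q d₀) = 1 := by
    rw [Int.gcd_eq_gcd_ab ((q : ℤ) + 1) m, add_mul, _root_.zpow_add]
    rw [show ((q : ℤ) + 1) * Int.gcdA ((q : ℤ) + 1) m * altSum q d₀ =
      (-(-(q : ℤ)) ^ d₀ + 1) * Int.gcdA ((q : ℤ) + 1) m by rw [← sub_eq_neg_add, ← altSum_mul']; ring,
      _root_.zpow_mul, show (-(-(q : ℤ)) ^ d₀ + 1) = -((-(q : ℤ)) ^ d₀ - 1) by ring, _root_.zpow_neg, hL1, inv_one, _root_.one_zpow, one_mul,
      mul_right_comm, _root_.zpow_mul, hL2, _root_.one_zpow]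
  have hS : ∃ Y : ℤ, altSum q n = (g1 : ℤ) * altSum q d₀ * Y := by
    set X' := ∑ j ∈ Finset.range m, ((-(q : ℤ)) ^ d₀) ^ j with hX
    have hSn : altSum q n = altSum q d₀ * X' := by
      apply mul_right_cancel₀ (show (-(q : ℤ) - 1) ≠ 0 by omega)
      rw [altSum_mul, mul_right_comm, altSum_mul, mul_comm, hX, geom_sum_mul, ← pow_mul, mul_comm d₀, hnmd]
    have hgX : (g1 : ℤ) ∣ X' := by
      have h1 : (g1 : ℤ) ∣ X' - m := by
        refine (Int.gcd_dvd_left ((q : ℤ) + 1) m).trans ?_
        have : X' - m = ∑ j ∈ Finset.range m, (((-(q : ℤ)) ^ d₀) ^ j - 1) := by simp [hX, Finset.sum_sub_distrib]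
        rw [this]
        refine Finset.dvd_sum fun j _ => ?_
        rw [← pow_mul]
        exact qp1_dvd q _
      simpa using h1.add (Int.gcd_dvd_right ((q : ℤ) + 1) m)
    obtain ⟨Y, hY⟩ := hgX
    exact ⟨Y, by rw [hSn, hY]; ring⟩
  have hL4 : L ^ (altSum q n) = 1 := by
    obtain ⟨Y, hY⟩ := hS
    rw [hY, _root_.zpow_mul, hL3, _root_.one_zpow]
  set N := torusN q n with hNdef
  have hμ : (l ^ N) ^ (q + 1) = 1 := by
    have h1 : ((altSum q n).natAbs) ∣ N * (q + 1) := by
      rw [← torusN_mul q n]; exact mul_dvd_mul_left _ (Nat.gcd_dvd_right _ _)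
    obtain ⟨k, hk⟩ := h1
    rw [← pow_mul, hk, pow_mul]
    have h2 : L ^ ((altSum q n).natAbs) = 1 := by
      rw [← zpow_natCast]
      rcases Int.natAbs_eq (altSum q n) with h | h
      · rw [← h, hL4]
      · rw [show ((altSum q n).natAbs : ℤ) = -altSum q n by omega, _root_.zpow_neg, hL4, inv_one]
    have h3 : l ^ (altSum q n).natAbs = 1 := by
      have := congrArg Units.val h2
      rwa [Units.val_pow_eq_pow_val] at this
    rw [h3, one_pow]
  have hfix : ∀ x ∈ Λ, x ^ N = l ^ N := by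
    intro x hx
    obtain ⟨j, -, rfl⟩ := Finset.mem_image.1 (hex x hx)
    clear hx
    induction j with
    | zero => rfl
    | succ j ih =>
      rw [Function.iterate_succ_apply']
      show ((τ^[j] l ^ q)⁻¹) ^ N = _
      rw [inv_pow, ← pow_mul, mul_comm, pow_mul, ih]
      exact (inv_eq_of_mul_eq_one_right (by rw [← pow_succ]; exact hμ))
  obtain ⟨c, hc⟩ := mem_range_of_pow_card (F := F) (l ^ N) (by
    rw [hF]
    have hx : (l ^ N) ^ q = (l ^ N)⁻¹ := eq_inv_of_mul_eq_one_left (by rw [← pow_succ]; exact hμ)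
    rw [pow_two, pow_mul, hx, inv_pow, hx, inv_inv])
  have hnil : (A ^ N - c • 1) ^ n = 0 := by
    have := aeval_pow_eq_zero_of_roots (K := K) A (X ^ N - Polynomial.C c) fun x hx => by
      rw [map_sub, map_pow, aeval_X, aeval_C, hc, hfix x hx, sub_self]
    rwa [map_sub, map_pow, aeval_X, aeval_C, Algebra.algebraMap_eq_smul_one] at this
  refine orderOf_dvd_of_pow_eq_one (psuMk_pow_eq_one_of g _ (c := c ^ p ^ Nat.clog p n) ?_)
  have h1 : (A ^ N - c • (1 : Matrix (Fin n) (Fin n) F)) ^ p ^ Nat.clog p n = 0 :=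
    pow_eq_zero_of_le (Nat.le_pow_clog hp.one_lt n) hnil
  rw [sub_pow_char_pow_of_commute (p := p) (n := Nat.clog p n) (h := (Commute.one_right _).smul_right c), _root_.smul_pow,
    one_pow, ← pow_mul, mul_comm, sub_eq_zero] at h1
  exact h1

end Main

end CfsgLib.UnitarySpec
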