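import Cfsg.Agent.Lib.KnownSimple.Unitary.Construct

/-!
The element orders of `PSU(3, q)` for odd `q`.
-/

set_option autoImplicit false
set_option linter.style.haveILetI false

namespace CfsgLib.UnitarySpec

open Matrix Polynomial Cfsg CfsgLib.Classical

variable {F : Type*} [Field F] [Fintype F] {q : ℕ} (hF : Fintype.card F = q ^ 2) {σ : F ≃+* F}
  (hσ : ∀ a, σ a = a ^ q)

include hF hσ

theorem frobenius_roots {p a : ℕ} (hp : p.Prime) (hq : q = p ^ a) {n : ℕ} (g : Cfsg.SU n F q) :
    ((g.1 : Matrix (Fin n) (Fin n) F).map (algebraMap F (AlgebraicClosure F))).charpoly.roots.map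
        (fun x => (x ^ q)⁻¹) =
      ((g.1 : Matrix (Fin n) (Fin n) F).map (algebraMap F (AlgebraicClosure F))).charpoly.roots := by
  haveI : Fact p.Prime := ⟨hp⟩
  haveI : CharP F p := charP_of_card_eq_prime_pow (f := a * 2) (by rw [hF, hq, ← pow_mul])
  set K := AlgebraicClosure F
  haveI : CharP K p := charP_of_injective_algebraMap (algebraMap F K).injective p
  haveI : ExpChar K p := ExpChar.prime hp
  set A := (g.1 : Matrix (Fin n) (Fin n) F) with hA
  have hd : A.det = 1 := g.1.2
  have hu : IsU σ 1 A := (mem_SU_iff hσ _).1 g.2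
  set Ak := A.map (algebraMap F K) with hAk
  have hdk : Ak.det ≠ 0 := by
    rw [hAk]
    show ((algebraMap F K).mapMatrix A).det ≠ 0
    rw [← RingHom.map_det, hd, map_one]
    exact one_ne_zero
  let ψ : K →+* K := iterateFrobenius K p a
  have hψ : ∀ x : K, ψ x = x ^ q := fun x => by rw [iterateFrobenius_def, hq]
  have hψσ : ∀ c : F, algebraMap F K (σ c) = ψ (algebraMap F K c) := fun c => by rw [hσ, map_pow, hψ]
  have h1 : Aᵀ * A.map σ = 1 := by rw [← Matrix.mul_one Aᵀ]; exact hu
  have h1' : Akᵀ * Ak.map ψ = 1 := by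
    have h2 := congrArg (fun M : Matrix (Fin n) (Fin n) F => M.map (algebraMap F K)) h1
    rw [Matrix.map_mul (f := algebraMap F K), Matrix.map_one _ (map_zero _) (map_one _)] at h2
    rw [← h2, hAk, transpose_map, Matrix.map_map, Matrix.map_map]
    congr 2
    funext c
    exact (hψσ c).symm
  have h3 : Ak.map ψ = (Ak⁻¹)ᵀ := by rw [transpose_nonsing_inv, Matrix.inv_eq_right_inv h1']
  have h4 : (Ak.map ψ).charpoly.roots = Ak.charpoly.roots.map ψ := by
    rw [Matrix.charpoly_map, (IsAlgClosed.splits Ak.charpoly).roots_map]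
  rw [h3, charpoly_transpose, roots_charpoly_inv Ak hdk] at h4
  have h5 := congrArg (Multiset.map fun x : K => x⁻¹) h4
  rw [Multiset.map_map, Multiset.map_map] at h5
  calc Ak.charpoly.roots.map (fun x => (x ^ q)⁻¹) = Ak.charpoly.roots.map ((fun x => x⁻¹) ∘ ψ) :=
        Multiset.map_congr rfl fun x _ => by simp [hψ]
    _ = Ak.charpoly.roots.map ((fun x => x⁻¹) ∘ fun x => x⁻¹) := h5.symm
    _ = _ := (Multiset.map_congr rfl fun x _ => inv_inv x).trans (Multiset.map_id' _)

omit hF hσ in
/-- A matrix with distinct eigenvalues whose `k`-th powers all equal `C` has scalar `k`-th power. -/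
theorem pow_eq_scalar_of_nodup {n : ℕ} (A : Matrix (Fin n) (Fin n) F) {k : ℕ} (hk : k ≠ 0) (C : F)
    (hnd : (A.map (algebraMap F (AlgebraicClosure F))).charpoly.roots.Nodup)
    (h : ∀ x ∈ (A.map (algebraMap F (AlgebraicClosure F))).charpoly.roots,
      x ^ k = algebraMap F (AlgebraicClosure F) C) :
    A ^ k = C • 1 := by
  set K := AlgebraicClosure F
  have hne : ((X ^ k - Polynomial.C C : F[X]).map (algebraMap F K)) ≠ 0 :=
    Polynomial.map_ne_zero (X_pow_sub_C_ne_zero (Nat.pos_of_ne_zero hk) C)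
  have hle : (A.map (algebraMap F K)).charpoly.roots ≤ ((X ^ k - Polynomial.C C : F[X]).map (algebraMap F K)).roots := by
    rw [Multiset.le_iff_subset hnd]
    intro x hx
    rw [mem_roots hne, IsRoot, eval_map_algebraMap, map_sub, map_pow, aeval_X, aeval_C, h x hx, sub_self]
  have hdvd : A.charpoly ∣ (X ^ k - Polynomial.C C : F[X]) := by
    rw [← Polynomial.map_dvd_map' (algebraMap F K), ← Matrix.charpoly_map,
      (IsAlgClosed.splits (A.map (algebraMap F K)).charpoly).eq_prod_roots_of_monic (Matrix.charpoly_monic _)]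
    exact (Multiset.prod_dvd_prod_of_le (Multiset.map_le_map hle)).trans (prod_multiset_X_sub_C_dvd _)
  obtain ⟨r, hr⟩ := hdvd
  have h0 : Polynomial.aeval A (X ^ k - Polynomial.C C : F[X]) = 0 := by
    rw [hr, map_mul, Matrix.aeval_self_charpoly, zero_mul]
  rw [map_sub, map_pow, aeval_X, aeval_C, sub_eq_zero, Algebra.algebraMap_eq_smul_one] at h0
  exact h0

/-- The element orders of `PSU(3, q)` divide one of four numbers. -/
theorem psu3_order_dvd {p a : ℕ} (hp : p.Prime) (hq : q = p ^ a) (hodd : p ≠ 2) (g : Cfsg.SU 3 F q) :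
    orderOf (psuMk g) ∣ q + 1 ∨ orderOf (psuMk g) ∣ p * (q + 1) / Nat.gcd 3 (q + 1) ∨
      orderOf (psuMk g) ∣ (q ^ 2 - 1) / Nat.gcd 3 (q + 1) ∨
      orderOf (psuMk g) ∣ (q ^ 2 - q + 1) / Nat.gcd 3 (q + 1) := by
  classical
  haveI : Fact p.Prime := ⟨hp⟩
  haveI : CharP F p := charP_of_card_eq_prime_pow (f := a * 2) (by rw [hF, hq, ← pow_mul])
  have hinvol := frobenius_roots hF hσ hp hq g
  set K := AlgebraicClosure F
  set A := (g.1 : Matrix (Fin 3) (Fin 3) F) with hA
  set Λ := (A.map (algebraMap F K)).charpoly.roots with hΛ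
  have hcard : Multiset.card Λ = 3 := by
    rw [hΛ, IsAlgClosed.card_roots_eq_natDegree, Matrix.charpoly_natDegree_eq_dim, Fintype.card_fin]
  have hprod : Λ.prod = 1 := by
    rw [hΛ, ← det_eq_prod_roots_charpoly]
    show ((algebraMap F K).mapMatrix A).det = 1
    rw [← RingHom.map_det, show A.det = 1 from g.1.2, map_one]
  let τ : K → K := fun x => (x ^ q)⁻¹
  have hτ : Λ.map τ = Λ := hinvol
  haveI : CharP K p := charP_of_injective_algebraMap (algebraMap F K).injective p
  haveI : ExpChar K p := ExpChar.prime hp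
  have hτinj : Function.Injective τ := fun x y h => (iterateFrobenius K p a).injective (by
    rw [iterateFrobenius_def, iterateFrobenius_def, ← hq]; exact inv_injective h)
  have hmem : ∀ x ∈ Λ, τ x ∈ Λ := fun x hx => hτ ▸ Multiset.mem_map_of_mem τ hx
  have hcount : ∀ x, Λ.count (τ x) = Λ.count x := fun x => by
    conv_lhs => rw [← hτ]
    exact Multiset.count_map_eq_count' τ Λ hτinj x
  have hne : ∀ x ∈ Λ, x ≠ 0 := fun x hx h0 => by
    rw [Multiset.prod_eq_zero (h0 ▸ hx)] at hprod
    exact zero_ne_one hprod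
  have hττ : ∀ x, τ (τ x) = x ^ Fintype.card F := fun x => by
    show ((((x ^ q)⁻¹) ^ q))⁻¹ = _
    rw [inv_pow, inv_inv, ← pow_mul, hF, sq]
  have hq2 : 2 ≤ q := two_le_q hF
  set d := Nat.gcd 3 (q + 1) with hd
  obtain ⟨e, he⟩ : d ∣ q + 1 := Nat.gcd_dvd_right _ _
  have hd3 : d = 1 ∨ d = 3 := (Nat.dvd_prime Nat.prime_three).1 (Nat.gcd_dvd_left 3 (q + 1))
  have hdpos : 0 < d := by omega
  have hepos : 0 < e := Nat.pos_of_ne_zero fun h => by rw [h, mul_zero] at he; omega
  -- a scalar power from roots with a common `k`-th power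
  have hfin : ∀ k, k ≠ 0 → Λ.Nodup → (∃ C : F, ∀ x ∈ Λ, x ^ k = algebraMap F K C) →
      orderOf (psuMk g) ∣ k := fun k hk hnd ⟨C, hC⟩ =>
    orderOf_dvd_of_pow_eq_one (psuMk_pow_eq_one_of g k (pow_eq_scalar_of_nodup A hk C hnd hC))
  by_cases hex : ∃ x ∈ Λ, τ x = x
  · obtain ⟨c, hc, hcτ⟩ := hex
    obtain ⟨Λ', hΛ'⟩ := Multiset.exists_cons_of_mem hc
    have hcard' : Multiset.card Λ' = 2 := by rw [hΛ', Multiset.card_cons] at hcard; omega
    obtain ⟨u, v, huv⟩ := Multiset.card_eq_two.1 hcard'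
    have hΛe : Λ = c ::ₘ u ::ₘ {v} := by rw [hΛ', huv]; rfl
    have hu : u ∈ Λ := by rw [hΛe]; simp
    have hv : v ∈ Λ := by rw [hΛe]; simp
    have huvc : c * (u * v) = 1 := by rw [← hprod, hΛe]; simp
    by_cases hfix : τ u = u
    · -- all roots have norm one
      have hvτ : τ v = v := by
        have h := hτ
        rw [hΛe, Multiset.map_cons, Multiset.map_cons, Multiset.map_singleton, hcτ, hfix,
          Multiset.cons_inj_right, Multiset.cons_inj_right, Multiset.singleton_inj] at h
        exact h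
      have hq1 : ∀ x ∈ Λ, x ^ (q + 1) = 1 := by
        intro x hx
        have hxτ : τ x = x := by
          rw [hΛe] at hx
          simp only [Multiset.mem_cons, Multiset.mem_singleton] at hx
          rcases hx with rfl | rfl | rfl <;> assumption
        have h0 := hne x hx
        calc x ^ (q + 1) = x ^ q * τ x := by rw [pow_succ, hxτ]
          _ = 1 := mul_inv_cancel₀ (pow_ne_zero q h0)
      by_cases hnd : Λ.Nodup
      · exact Or.inl (hfin (q + 1) (by omega) hnd ⟨1, fun x hx => by rw [hq1 x hx, map_one]⟩)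
      · -- a repeated root
        obtain ⟨r, hr⟩ : ∃ r ∈ Λ, ∀ x ∈ Λ, x = r ∨ x = (r * r)⁻¹ := by
          rw [hΛe] at hnd ⊢
          simp only [Multiset.nodup_cons, Multiset.mem_cons, Multiset.mem_singleton, Multiset.nodup_singleton,
            and_true, not_and_or, not_not, not_or] at hnd
          rcases hnd with (h | h) | h
          · subst h
            exact ⟨c, by simp, fun x hx => by
              simp only [Multiset.mem_cons, Multiset.mem_singleton] at hx
              rcases hx with rfl | rfl | rfl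
              · exact Or.inl rfl
              · exact Or.inl rfl
              · exact Or.inr (eq_inv_of_mul_eq_one_right (by rw [← huvc]; ring))⟩
          · subst h
            exact ⟨c, by simp, fun x hx => by
              simp only [Multiset.mem_cons, Multiset.mem_singleton] at hx
              rcases hx with rfl | rfl | rfl
              · exact Or.inl rfl
              · exact Or.inr (eq_inv_of_mul_eq_one_right (by rw [← huvc]; ring))
              · exact Or.inl rfl⟩
          · subst h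
            exact ⟨u, by simp, fun x hx => by
              simp only [Multiset.mem_cons, Multiset.mem_singleton] at hx
              rcases hx with rfl | rfl | rfl
              · exact Or.inr (eq_inv_of_mul_eq_one_right (by rw [← huvc]; ring))
              · exact Or.inl rfl
              · exact Or.inl rfl⟩
        obtain ⟨hrΛ, hr⟩ := hr
        have hr1 := hq1 r hrΛ
        have hrF : r ^ Fintype.card F = r := by
          have hxτ : τ r = r := by
            show (r ^ q)⁻¹ = r
            exact inv_eq_of_mul_eq_one_right (by rw [← pow_succ]; exact hr1)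
          rw [← hττ, hxτ, hxτ]
        obtain ⟨R, hR⟩ := mem_range_of_pow_card r hrF
        have hr3 : r ^ (e * 3) = 1 := by
          rcases hd3 with h | h
          · rw [h, one_mul] at he
            rw [pow_mul, ← he, hr1, one_pow]
          · rw [h, mul_comm] at he
            rw [← he, hr1]
        have hall : ∀ x ∈ Λ, x ^ e = algebraMap F K (R ^ e) := by
          intro x hx
          rw [map_pow, hR]
          rcases hr x hx with rfl | rfl
          · rfl
          · rw [inv_pow]
            exact inv_eq_of_mul_eq_one_right (by rw [← hr3, pow_mul]; ring)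
        have hnil := aeval_pow_eq_zero_of_roots (K := K) A (X ^ e - Polynomial.C (R ^ e)) fun x hx => by
          rw [map_sub, map_pow, aeval_X, aeval_C, hall x hx, sub_self]
        rw [map_sub, map_pow, aeval_X, aeval_C] at hnil
        haveI : CharP (Matrix (Fin 3) (Fin 3) F) p :=
          charP_of_injective_algebraMap (algebraMap F (Matrix (Fin 3) (Fin 3) F)).injective p
        have hp3 : 3 ≤ p := by have := hp.two_le; omega
        have hpow : A ^ (e * p) = (R ^ e) ^ p • 1 := by
          have h := pow_eq_zero_of_le hp3 hnil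
          rw [sub_pow_char_of_commute p (Algebra.commutes' (R := F) _ _).symm, sub_eq_zero, ← map_pow,
            Algebra.algebraMap_eq_smul_one, ← pow_mul] at h
          exact h
        refine Or.inr (Or.inl ?_)
        rw [he, mul_left_comm, Nat.mul_div_cancel_left _ hdpos, mul_comm]
        exact orderOf_dvd_of_pow_eq_one (psuMk_pow_eq_one_of g (e * p) hpow)
    · -- two roots exchanged
      have huv' : τ u = v := by
        have h := hmem u hu
        rw [hΛe] at h
        simp only [Multiset.mem_cons, Multiset.mem_singleton] at h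
        rcases h with h | h | h
        · exact absurd (hτinj (h.trans hcτ.symm)) fun huc => hfix (huc.symm ▸ hcτ)
        · exact absurd h hfix
        · exact h
      have hcu : c ≠ u := fun h => hfix (h ▸ hcτ)
      have huvne : u ≠ v := fun h => hfix (huv'.trans h.symm)
      have hcv : c ≠ v := fun h => hcu (hτinj (hcτ.trans (h.trans huv'.symm)))
      have hnd : Λ.Nodup := by rw [hΛe]; simp [hcu, hcv, huvne]
      have hτv : τ v = u := by
        have h := hτ
        rw [hΛe, Multiset.map_cons, Multiset.map_cons, Multiset.map_singleton, hcτ, huv',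
          Multiset.cons_inj_right, Multiset.cons_eq_cons] at h
        rcases h with ⟨h, -⟩ | ⟨-, cs, h, -⟩
        · exact absurd h.symm huvne
        · have hm : u ∈ ({τ v} : Multiset K) ∨ True := Or.inr trivial
          clear hm
          have := congrArg Multiset.card h
          rw [Multiset.card_singleton, Multiset.card_cons] at this
          have hcs : cs = 0 := Multiset.card_eq_zero.1 (by omega)
          rw [hcs] at h
          exact Multiset.singleton_inj.1 h
      have hu0 := hne u hu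
      have hu2 : u ^ (q ^ 2 - 1) = 1 := by
        have h : u ^ Fintype.card F = u := by rw [← hττ, huv', hτv]
        rw [hF, ← Nat.sub_add_cancel (Nat.one_le_pow 2 q (by omega)), pow_succ] at h
        exact mul_eq_right₀ hu0 |>.1 h
      set k := e * (q - 1) with hk
      have hqk : q ^ 2 - 1 = d * k := by
        rw [hk, ← mul_assoc, ← he, ← Nat.sq_sub_sq, one_pow]
      have huq : u ^ ((q + 1) * k) = 1 := by
        rw [he, mul_right_comm, ← hqk, pow_mul, hu2, one_pow]
      have hvk : v ^ k = u ^ k := by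
        rw [← huv']
        show ((u ^ q)⁻¹) ^ k = u ^ k
        rw [inv_pow]
        exact inv_eq_of_mul_eq_one_right (by rw [← mul_pow, ← pow_succ, ← pow_mul, huq])
      have hck : c ^ k = u ^ k := by
        have h : u ^ (3 * k) = 1 := by
          rcases hd3 with h | h
          · rw [h, one_mul] at hqk
            rw [mul_comm, pow_mul, ← hqk, hu2, one_pow]
          · rw [← h, ← hqk, hu2]
        have h' : c ^ k * (u ^ k * v ^ k) = 1 := by rw [← mul_pow, ← mul_pow, huvc, one_pow]
        rw [hvk, ← mul_assoc] at h'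
        have h'' : u ^ k * u ^ k * u ^ k = 1 := by rw [← h, ← pow_add, ← pow_add]; ring_nf
        exact mul_right_cancel₀ (pow_ne_zero k hu0) (mul_right_cancel₀ (pow_ne_zero k hu0) (h'.trans h''.symm))
      have hUF : u ^ k = (u ^ k) ^ Fintype.card F := by
        rw [pow_right_comm, ← hττ, huv', hτv]
      obtain ⟨U, hU⟩ := mem_range_of_pow_card (u ^ k) hUF.symm
      refine Or.inr (Or.inr (Or.inl ?_))
      rw [hqk, Nat.mul_div_cancel_left _ hdpos]
      refine hfin k (by rw [hk]; exact (Nat.mul_pos hepos (by omega)).ne') hnd ⟨U, fun x hx => ?_⟩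
      rw [hU]
      rw [hΛe] at hx
      simp only [Multiset.mem_cons, Multiset.mem_singleton] at hx
      rcases hx with rfl | rfl | rfl
      exacts [hck, rfl, hvk]
  · -- the Frobenius orbit has length three
    push Not at hex
    obtain ⟨u, hu⟩ : ∃ u, u ∈ Λ := Multiset.exists_mem_of_ne_zero fun h => by rw [h] at hcard; simp at hcard
    have h1 := hex u hu
    have hv := hmem u hu
    have hw := hmem _ hv
    set v := τ u
    set w := τ v with hwdef
    have h2 : w ≠ v := hex v hv
    have h3 : w ≠ u := by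
      intro hwu
      obtain ⟨s, hs⟩ := Multiset.exists_cons_of_mem hu
      have hv' : v ∈ s := by
        have := hv; rw [hs, Multiset.mem_cons] at this; exact this.resolve_left h1
      obtain ⟨s', hs'⟩ := Multiset.exists_cons_of_mem hv'
      have hc' : Multiset.card s' = 1 := by
        rw [hs, hs', Multiset.card_cons, Multiset.card_cons] at hcard; omega
      obtain ⟨z, hz⟩ := Multiset.card_eq_one.1 hc'
      have h := hτ
      rw [hs, hs', hz, Multiset.map_cons, Multiset.map_cons, Multiset.map_singleton,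
        show τ u = v from rfl, show τ v = u from hwu, Multiset.cons_swap, Multiset.cons_inj_right,
        Multiset.cons_inj_right, Multiset.singleton_inj] at h
      exact hex z (by rw [hs, hs', hz]; simp) h
    have hnodup : ({u, v, w} : Multiset K).Nodup := by
      simp [Ne.symm h1, Ne.symm h3, Ne.symm h2]
    have hΛe : Λ = {u, v, w} := by
      refine (Multiset.eq_of_le_of_card_le ((Multiset.le_iff_subset hnodup).2 fun x hx => ?_) (by rw [hcard]; rfl)).symm
      simp only [Multiset.insert_eq_cons, Multiset.mem_cons, Multiset.mem_singleton] at hx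
      rcases hx with rfl | rfl | rfl <;> assumption
    have hu0 := hne u hu
    have hw' : w = u ^ Fintype.card F := by rw [hwdef]; exact hττ u
    set M := q ^ 2 - q + 1 with hM
    have hq' : q ≤ q ^ 2 := Nat.le_self_pow two_ne_zero q
    have huM : u ^ M = 1 := by
      have h : u * v * w = 1 := by rw [← hprod, hΛe]; simp [mul_assoc]
      rw [hw', hF] at h
      have hv' : v * u ^ q = 1 := inv_mul_cancel₀ (pow_ne_zero q hu0)
      calc u ^ M = (v * u ^ q) * u ^ M := by rw [hv', one_mul]
        _ = u * v * u ^ (q ^ 2) := by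
          rw [mul_assoc, ← pow_add, show q + M = q ^ 2 + 1 by omega, pow_succ]; ring
        _ = 1 := h
    have hdM : d ∣ M := by
      rcases hd3 with h | h
      · rw [h]; exact one_dvd _
      · rw [h]
        have h3q : q % 3 = 2 := by rw [h] at he; omega
        have : q ^ 2 % 3 = 1 := by rw [Nat.pow_mod, h3q]
        omega
    obtain ⟨k, hk⟩ := hdM
    have hkpos : k ≠ 0 := fun h => by rw [h, mul_zero] at hk; omega
    have hdk : u ^ (d * k) = 1 := hk ▸ huM
    have hqk : u ^ ((q + 1) * k) = 1 := by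
      rw [he, mul_right_comm, pow_mul, hdk, one_pow]
    have hvk : v ^ k = u ^ k := by
      show ((u ^ q)⁻¹) ^ k = u ^ k
      rw [inv_pow]
      exact inv_eq_of_mul_eq_one_right (by rw [← mul_pow, ← pow_succ, ← pow_mul, hqk])
    have hwk : w ^ k = u ^ k := by
      show ((v ^ q)⁻¹) ^ k = u ^ k
      rw [inv_pow, ← pow_mul, mul_comm q k, pow_mul, hvk, ← pow_mul]
      exact inv_eq_of_mul_eq_one_right (by rw [← pow_add, show k * q + k = (q + 1) * k by ring, hqk])
    have hUF : (u ^ k) ^ Fintype.card F = u ^ k := by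
      rw [pow_right_comm, ← hw', hwk]
    obtain ⟨U, hU⟩ := mem_range_of_pow_card (u ^ k) hUF
    refine Or.inr (Or.inr (Or.inr ?_))
    rw [hk, Nat.mul_div_cancel_left _ hdpos]
    refine hfin k hkpos (hΛe ▸ hnodup) ⟨U, fun x hx => ?_⟩
    rw [hU]
    rw [hΛe] at hx
    simp only [Multiset.insert_eq_cons, Multiset.mem_cons, Multiset.mem_singleton] at hx
    rcases hx with rfl | rfl | rfl
    exacts [rfl, hvk, hwk]

/-- A prescribed multiple of the order in `PSU`. -/
theorem dvd_psu_order_mul (g : Cfsg.SU 3 F q) : orderOf g ∣ orderOf (psuMk g) * Nat.gcd 3 (q + 1) := by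
  obtain ⟨c, hc, hc3, hcq⟩ := exists_of_psuMk_pow_eq_one hF (by norm_num) hσ g (orderOf (psuMk g))
    (pow_orderOf_eq_one _)
  have hcd : c ^ Nat.gcd 3 (q + 1) = 1 := pow_gcd_eq_one.2 ⟨hc3, hcq⟩
  refine orderOf_dvd_of_pow_eq_one (Subtype.ext (Subtype.ext ?_))
  show ((g ^ (orderOf (psuMk g) * Nat.gcd 3 (q + 1))).1 : Matrix (Fin 3) (Fin 3) F) = 1
  rw [su_coe_pow, pow_mul, hc, _root_.smul_pow, one_pow, hcd, one_smul]

theorem exists_psu_order_of_dvd {m s : ℕ} (g : Cfsg.SU 3 F q) (hg : Nat.gcd 3 (q + 1) * m ∣ orderOf g)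
    (hs : s ∣ m) : s ∈ Set.range (orderOf : Cfsg.PSU 3 F q → ℕ) := by
  have hm : m ∣ orderOf (psuMk g) := by
    have h := hg.trans (dvd_psu_order_mul hF hσ g)
    rw [mul_comm] at h
    exact Nat.dvd_of_mul_dvd_mul_right (Nat.gcd_pos_of_pos_left _ (by norm_num)) h
  haveI : Finite (Cfsg.SU 3 F q) := inferInstance
  exact ⟨psuMk g ^ (orderOf (psuMk g) / s), orderOf_pow_orderOf_div (orderOf_pos _).ne' (hs.trans hm)⟩

theorem exists_prim : ∃ w ζ : F, w ≠ 0 ∧ orderOf w = q ^ 2 - 1 ∧ ζ = w ^ (q - 1) ∧ orderOf ζ = q + 1 ∧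
    ζ * σ ζ = 1 ∧ w ^ (q ^ 2) = w := by
  classical
  have hq := two_le_q hF
  obtain ⟨u, hu⟩ := IsCyclic.exists_ofOrder_eq_natCard (α := Fˣ)
  rw [Nat.card_eq_fintype_card, Fintype.card_units, hF] at hu
  have how : orderOf (u : F) = q ^ 2 - 1 := by rw [orderOf_units, hu]
  have hf : q ^ 2 - 1 = (q + 1) * (q - 1) := by rw [← Nat.sq_sub_sq, one_pow]
  refine ⟨u, (u : F) ^ (q - 1), u.ne_zero, how, rfl, ?_, ?_, by rw [← hF, FiniteField.pow_card]⟩
  · rw [orderOf_pow' _ (by omega), how, hf, Nat.gcd_eq_right (dvd_mul_left _ _),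
      Nat.mul_div_cancel _ (by omega)]
  · rw [hσ, ← pow_mul, ← pow_add, show q - 1 + (q - 1) * q = q ^ 2 - 1 by rw [hf]; ring, ← how,
      pow_orderOf_eq_one]

theorem range_of_dvd_first {s : ℕ} (hs : s ∣ q + 1) : s ∈ Set.range (orderOf : Cfsg.PSU 3 F q → ℕ) := by
  obtain ⟨w, ζ, hw0, how, -, hoζ, hζ, -⟩ := exists_prim hF hσ
  have hζ0 : ζ ≠ 0 := left_ne_zero_of_mul_eq_one hζ
  set A : Matrix (Fin 3) (Fin 3) F := Matrix.diagonal ![ζ, ζ⁻¹, 1] with hA
  have hU : IsU σ 1 A := by
    show Aᵀ * 1 * A.map σ = 1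
    rw [hA, Matrix.mul_one, diagonal_transpose, diagonal_map (map_zero σ), diagonal_mul_diagonal, ← diagonal_one]
    congr 1
    funext i
    fin_cases i <;> simp [hζ, map_inv₀, ← mul_inv]
  obtain ⟨g, hg⟩ := exists_su hσ A (by rw [hA, det_diagonal, Fin.prod_univ_three]; simp [hζ0]) hU
  have hm : q + 1 ∣ orderOf (psuMk g) := by
    obtain ⟨c, hc, -, -⟩ := exists_of_psuMk_pow_eq_one hF (by norm_num) hσ g _ (pow_orderOf_eq_one (psuMk g))
    rw [hg, hA, diagonal_pow, smul_one_eq_diagonal] at hc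
    have h2 : (1 : F) = c := by simpa using congrFun (diagonal_injective hc) 2
    have h0 : ζ ^ orderOf (psuMk g) = c := by simpa using congrFun (diagonal_injective hc) 0
    rw [← hoζ]
    exact orderOf_dvd_of_pow_eq_one (h0.trans h2.symm)
  exact ⟨psuMk g ^ (orderOf (psuMk g) / s), orderOf_pow_orderOf_div (orderOf_pos _).ne' (hs.trans hm)⟩

omit hF hσ in
/-- The Hermitian form with an isotropic pair. -/
theorem split_form_props :
    (!![0, 1, 0; 1, 0, 0; 0, 0, 1] : Matrix (Fin 3) (Fin 3) F)ᵀ =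
        (!![0, 1, 0; 1, 0, 0; 0, 0, 1] : Matrix (Fin 3) (Fin 3) F).map σ ∧
      (!![0, 1, 0; 1, 0, 0; 0, 0, 1] : Matrix (Fin 3) (Fin 3) F).det ≠ 0 := by
  refine ⟨?_, by simp [det_fin_three]⟩
  ext i j
  fin_cases i <;> fin_cases j <;> simp

theorem range_of_dvd_second {p a : ℕ} (hp : p.Prime) (hq : q = p ^ a) {s : ℕ}
    (hs : s ∣ p * (q + 1) / Nat.gcd 3 (q + 1)) : s ∈ Set.range (orderOf : Cfsg.PSU 3 F q → ℕ) := by
  classical
  haveI : Fact p.Prime := ⟨hp⟩
  haveI : CharP F p := charP_of_card_eq_prime_pow (f := a * 2) (by rw [hF, hq, ← pow_mul])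
  have hinv := sigma_sigma hF hσ
  obtain ⟨w, ζ, hw0, how, -, hoζ, hζ, -⟩ := exists_prim hF hσ
  have hζ0 : ζ ≠ 0 := left_ne_zero_of_mul_eq_one hζ
  obtain ⟨b, hb⟩ := exists_trace_ne hF hσ
  set c := b - σ b with hcdef
  have hc0 : c ≠ 0 := sub_ne_zero.2 hb.symm
  have hσc : c + σ c = 0 := by rw [hcdef, map_sub, hinv]; ring
  set A : Matrix (Fin 3) (Fin 3) F := !![ζ, ζ * c, 0; 0, ζ, 0; 0, 0, ζ⁻¹ * ζ⁻¹] with hA
  obtain ⟨hH, hHd⟩ := split_form_props (σ := σ)
  have hU : IsU σ (!![0, 1, 0; 1, 0, 0; 0, 0, 1] : Matrix (Fin 3) (Fin 3) F) A := by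
    have h1 : σ ζ = ζ⁻¹ := eq_inv_of_mul_eq_one_right hζ
    have h2 : σ ζ⁻¹ = ζ := by rw [map_inv₀, h1, inv_inv]
    have h3 : ζ * c * σ ζ + ζ * σ (ζ * c) = 0 := by
      rw [map_mul, show ζ * c * σ ζ + ζ * (σ ζ * σ c) = ζ * σ ζ * (c + σ c) by ring, hσc, mul_zero]
    show Aᵀ * _ * A.map σ = _
    ext i j
    fin_cases i <;> fin_cases j <;>
      simp [hA, Matrix.mul_apply, Fin.sum_univ_three, h1, h2, hζ0, map_mul] <;>
      (try field_simp) <;> (try linear_combination h3) <;> (try linear_combination hσc)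
  obtain ⟨g, hg⟩ := exists_su_of_form hσ hinv (sigma_ne hF hσ) (n := 3) (Fintype.card_fin 3) hH hHd hU
    (by rw [hA, det_fin_three]; simp; field_simp)
  have hpow : ∀ k : ℕ, A ^ k = !![ζ ^ k, (k : F) * ζ ^ k * c, 0; 0, ζ ^ k, 0; 0, 0, (ζ⁻¹ * ζ⁻¹) ^ k] := by
    intro k
    induction k with
    | zero => rw [pow_zero]; ext i j; fin_cases i <;> fin_cases j <;> simp
    | succ k ih =>
      rw [pow_succ A, ih, hA]
      ext i j
      fin_cases i <;> fin_cases j <;> simp [Matrix.mul_apply, Fin.sum_univ_three, pow_succ] <;> ring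
  refine exists_psu_order_of_dvd hF hσ g ?_ hs
  rw [Nat.mul_div_cancel' ((Nat.gcd_dvd_right 3 (q + 1)).mul_left p), hg]
  have h1 := hpow (orderOf A)
  rw [pow_orderOf_eq_one] at h1
  have e00 : ζ ^ orderOf A = 1 := by simpa using (congrFun (congrFun h1 0) 0).symm
  have e01 : (orderOf A : F) = 0 := by
    have h := congrFun (congrFun h1 0) 1
    simpa [e00, hc0] using h.symm
  have hcop : p.Coprime (q + 1) := by
    refine (hp.coprime_iff_not_dvd).2 fun h => hp.ne_one (Nat.dvd_one.1 ?_)
    have hq2 := two_le_q hF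
    refine (Nat.dvd_add_right (hq ▸ dvd_pow_self p fun ha => ?_)).1 h
    rw [ha, pow_zero] at hq
    omega
  exact hcop.mul_dvd_of_dvd_of_dvd ((CharP.cast_eq_zero_iff F p _).1 e01)
    (hoζ ▸ orderOf_dvd_of_pow_eq_one e00)

theorem range_of_dvd_third {s : ℕ} (hs : s ∣ (q ^ 2 - 1) / Nat.gcd 3 (q + 1)) :
    s ∈ Set.range (orderOf : Cfsg.PSU 3 F q → ℕ) := by
  classical
  have hinv := sigma_sigma hF hσ
  have hq := two_le_q hF
  obtain ⟨w, ζ, hw0, how, hζdef, -, hζ, hwq⟩ := exists_prim hF hσ
  set A : Matrix (Fin 3) (Fin 3) F := Matrix.diagonal ![w, (w ^ q)⁻¹, ζ] with hA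
  obtain ⟨hH, hHd⟩ := split_form_props (σ := σ)
  have hU : IsU σ (!![0, 1, 0; 1, 0, 0; 0, 0, 1] : Matrix (Fin 3) (Fin 3) F) A := by
    have h1 : σ (w ^ q) = w := by rw [hσ, ← pow_mul, ← sq, hwq]
    have h2 : σ w = w ^ q := hσ w
    show Aᵀ * _ * A.map σ = _
    rw [hA, diagonal_transpose, diagonal_map (map_zero σ)]
    ext i j
    rw [mul_diagonal, diagonal_mul]
    fin_cases i <;> fin_cases j <;> simp [map_inv₀, h1, h2, hζ, hw0]
  obtain ⟨g, hg⟩ := exists_su_of_form hσ hinv (sigma_ne hF hσ) (n := 3) (Fintype.card_fin 3) hH hHd hU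
    (by
      rw [hA, det_diagonal, Fin.prod_univ_three, hζdef]
      simp
      field_simp
      rw [← pow_succ']
      congr 1
      omega)
  refine exists_psu_order_of_dvd hF hσ g ?_ hs
  rw [Nat.mul_div_cancel' ((Nat.gcd_dvd_right 3 (q + 1)).trans (Dvd.intro _ (Nat.sq_sub_sq q 1).symm)), hg, ← how]
  refine orderOf_dvd_of_pow_eq_one ?_
  have h1 := pow_orderOf_eq_one A
  rw [hA, diagonal_pow, ← diagonal_one] at h1
  simpa using congrFun (diagonal_injective h1) 0

theorem range_of_dvd_fourth {s : ℕ} (hs : s ∣ (q ^ 2 - q + 1) / Nat.gcd 3 (q + 1)) :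
    s ∈ Set.range (orderOf : Cfsg.PSU 3 F q → ℕ) := by
  obtain ⟨g, hg⟩ := exists_torus_odd hF hσ (n := 3) ⟨1, rfl⟩
  have hM : (altSum q 3).natAbs = q ^ 2 - q + 1 := by
    have h : altSum q 3 = ((q ^ 2 - q + 1 : ℕ) : ℤ) := by
      have : q ≤ q ^ 2 := Nat.le_self_pow two_ne_zero q
      simp [altSum, Finset.sum_range_succ, Nat.cast_sub this]
      ring
    rw [h, Int.natAbs_natCast]
  refine exists_psu_order_of_dvd hF hσ g ?_ hs
  rw [hg, ← hM, Nat.mul_div_cancel' (gcd_dvd_altSum q 3)]

/-- The spectrum of `PSU(3, q)`, `q` odd. -/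
theorem psu3_spectrum {p a : ℕ} (hp : p.Prime) (hq : q = p ^ a) (hodd : p ≠ 2) :
    Set.range (orderOf : Cfsg.PSU 3 F q → ℕ) =
      {s : ℕ | s ∣ q + 1} ∪ {s : ℕ | s ∣ p * (q + 1) / Nat.gcd 3 (q + 1)} ∪
        {s : ℕ | s ∣ (q ^ 2 - 1) / Nat.gcd 3 (q + 1)} ∪ {s : ℕ | s ∣ (q ^ 2 - q + 1) / Nat.gcd 3 (q + 1)} := by
  ext s
  constructor
  · rintro ⟨x, rfl⟩
    obtain ⟨g, rfl⟩ := QuotientGroup.mk'_surjective _ x
    rcases psu3_order_dvd hF hσ hp hq hodd g with h | h | h | h
    exacts [Or.inl (Or.inl (Or.inl h)), Or.inl (Or.inl (Or.inr h)), Or.inl (Or.inr h), Or.inr h]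
  · rintro (((h | h) | h) | h)
    exacts [range_of_dvd_first hF hσ h, range_of_dvd_second hF hσ hp hq h, range_of_dvd_third hF hσ h,
      range_of_dvd_fourth hF hσ h]

end CfsgLib.UnitarySpec
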