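/-
Tori and regular unipotent elements of SU(n, q).
-/
import Cfsg.Agent.Lib.KnownSimple.Unitary.Classify
import Cfsg.Agent.Lib.KnownSimple.SpConstruct

set_option autoImplicit false

namespace CfsgLib.UnitarySpec

open Matrix Cfsg CfsgLib.Classical CfsgLib.KnownSimple

variable {F : Type*} [Field F] {n q : ℕ}

lemma exists_orderOf_eq_of_dvd {G : Type*} [Group G] [IsCyclic G] [Finite G] {d : ℕ} (hd : d ∣ Nat.card G) :
    ∃ g : G, orderOf g = d := by
  obtain ⟨g, hg⟩ := IsCyclic.exists_ofOrder_eq_natCard (α := G)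
  obtain ⟨k, hk⟩ := hd
  have hk0 : k ≠ 0 := by rintro rfl; rw [mul_zero] at hk; exact Nat.card_pos.ne' hk
  refine ⟨g ^ k, ?_⟩
  rw [orderOf_pow' _ hk0, hg, hk, Nat.gcd_eq_right (dvd_mul_left _ _), Nat.mul_div_cancel _ (Nat.pos_of_ne_zero hk0)]

lemma altSum_natAbs_mul (q : ℕ) (n : ℕ) :
    ((altSum q n).natAbs : ℤ) * ((q : ℤ) + 1) = |1 - (-(q : ℤ)) ^ n| := by
  rw [← altSum_mul', abs_mul, Int.natCast_natAbs, abs_of_nonneg (show (0 : ℤ) ≤ (q : ℤ) + 1 by omega)]

section Torus

variable [Fintype F] (hF : Fintype.card F = q ^ 2) {σ : F ≃+* F} (hσ : ∀ a, σ a = a ^ q)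

include hσ hF in
lemma pow_pow_odd (c : F) : ∀ k : ℕ, c ^ q ^ (2 * k + 1) = σ c
  | 0 => by rw [hσ]; simp
  | k + 1 => by
    rw [show 2 * (k + 1) + 1 = 2 * k + 1 + 2 by ring, pow_add, pow_mul, pow_pow_odd c k, ← hF, FiniteField.pow_card]

include hF hσ in
/-- A cyclic subgroup of `SU_n` of order `(q ^ n + 1) / (q + 1)`, `n` odd. -/
lemma exists_torus_odd (hn : Odd n) : ∃ g : Cfsg.SU n F q, orderOf g = (altSum q n).natAbs := by
  classical
  obtain ⟨k, hk⟩ := hn
  have hq := two_le_q hF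
  haveI : NeZero n := ⟨by omega⟩
  obtain ⟨p, hp⟩ := CharP.exists F
  haveI : Fact p.Prime := ⟨CharP.char_is_prime F p⟩
  let L := FiniteField.Extension F p n
  letI : Fintype L := Fintype.ofFinite _
  have hfr : Module.finrank F L = n := FiniteField.finrank_extension F p n
  have hcardL : Fintype.card L = q ^ (2 * n) := by
    rw [← Nat.card_eq_fintype_card, FiniteField.natCard_extension F p n, Nat.card_eq_fintype_card, hF, ← pow_mul]
  obtain ⟨s, hs⟩ : ∃ s : ℕ, q ^ n = p ^ s := by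
    obtain ⟨f, -, hf⟩ := FiniteField.card F p
    rw [hF] at hf
    obtain ⟨j, -, hj⟩ := (Nat.dvd_prime_pow Fact.out).1 (hf ▸ dvd_pow_self q two_ne_zero : q ∣ p ^ (f : ℕ))
    exact ⟨j * n, by rw [hj, pow_mul]⟩
  haveI : CharP L p := charP_of_injective_algebraMap (algebraMap F L).injective p
  haveI : ExpChar L p := ExpChar.prime Fact.out
  let τ : L →+* L := iterateFrobenius L p s
  have hτ : ∀ x : L, τ x = x ^ q ^ n := fun x => by rw [iterateFrobenius_def, hs]
  have hττ : ∀ x : L, τ (τ x) = x := fun x => by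
    rw [hτ, hτ, ← pow_mul, ← pow_add, ← two_mul, ← hcardL, FiniteField.pow_card]
  have hτσ : ∀ c : F, τ (algebraMap F L c) = algebraMap F L (σ c) := fun c => by
    rw [hτ, ← map_pow, show q ^ n = q ^ (2 * k + 1) from congrArg _ hk, pow_pow_odd hF hσ]
  have htr : ∀ y : L, σ (Algebra.trace F L y) = Algebra.trace F L (τ y) := fun y => by
    apply (algebraMap F L).injective
    rw [← hτσ, FiniteField.algebraMap_trace_eq_sum_pow, FiniteField.algebraMap_trace_eq_sum_pow, map_sum]
    exact Finset.sum_congr rfl fun i _ => map_pow τ y _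
  let B : L →ₛₗ[(σ : F →+* F)] L →ₗ[F] F :=
    LinearMap.mk₂'ₛₗ (σ : F →+* F) (RingHom.id F) (fun u v => Algebra.trace F L (v * τ u))
      (fun u u' v => by rw [map_add, mul_add, map_add])
      (fun c u v => by
        rw [Algebra.smul_def, map_mul τ, hτσ, ← mul_assoc, mul_comm v, mul_assoc, ← Algebra.smul_def, map_smul]; rfl)
      (fun u v v' => by rw [add_mul, map_add])
      (fun c u v => by rw [Algebra.smul_mul_assoc, map_smul]; rfl)
  have hB : ∀ u v, B u v = Algebra.trace F L (v * τ u) := fun _ _ => rfl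
  have hsym : ∀ u v, σ (B u v) = B v u := fun u v => by rw [hB, hB, htr, map_mul τ, hττ, mul_comm]
  have hsep : B.SeparatingLeft := fun u hu => by
    have h1 : τ u = 0 := (traceForm_nondegenerate F L).1 (τ u) fun w => by
      rw [Algebra.traceForm_apply, mul_comm, ← hB]; exact hu w
    rw [← hττ u, h1, map_zero]
  obtain ⟨b₀, hb₀⟩ := Cfsg.Agent.S0755.result (σ : F →+* F)
    (fun h => sigma_ne hF hσ (RingEquiv.ext fun a => RingHom.congr_fun h a))
    (sigma_sigma hF hσ) B ⟨fun u v => hsym u v⟩ ⟨hsep, fun v hv => hsep v fun w => by rw [← hsym w v, hv w, map_zero]⟩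
  let b := b₀.reindex (finCongr hfr)
  have hb : ∀ i j, B (b i) (b j) = if i = j then 1 else 0 := fun i j => by
    simp only [b, Module.Basis.reindex_apply, hb₀]
    exact if_congr (Equiv.apply_eq_iff_eq _) rfl rfl
  set E := (altSum q n).natAbs with hE
  have habs : (E : ℤ) * ((q : ℤ) + 1) = (q : ℤ) ^ n + 1 := by
    rw [hE, altSum_natAbs_mul, Odd.neg_pow ⟨k, hk⟩, sub_neg_eq_add,
      abs_of_nonneg (show (0 : ℤ) ≤ 1 + (q : ℤ) ^ n by positivity), add_comm]
  have hEq : E * (q + 1) = q ^ n + 1 := by exact_mod_cast habs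
  obtain ⟨u, hu⟩ := exists_orderOf_eq_of_dvd (G := Lˣ) (d := E) (by
    rw [Nat.card_units, Nat.card_eq_fintype_card, hcardL, two_mul, pow_add,
      show q ^ n * q ^ n - 1 = (q ^ n + 1) * (q ^ n - 1) by rw [← Nat.sq_sub_sq, one_pow, sq], ← hEq]
    exact (dvd_mul_right _ _).mul_right _)
  have hux : (u : L) * τ (u : L) = 1 := by
    rw [hτ, ← pow_succ', ← hEq, pow_mul, ← hu, ← Units.val_pow_eq_pow_val, pow_orderOf_eq_one, Units.val_one,
      one_pow]
  set M := Algebra.leftMulMatrix b (u : L) with hM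
  have hU : IsU σ 1 M := by
    show _ = _
    ext i j
    have hx : ∀ i, (u : L) * b i = ∑ l, M l i • b l := fun i => by
      conv_lhs => rw [← b.sum_repr ((u : L) * b i)]
      exact Finset.sum_congr rfl fun l _ => by rw [hM, Algebra.leftMulMatrix_eq_repr_mul]
    have h1 : B ((u : L) * b j) ((u : L) * b i) = B (b j) (b i) := by
      rw [hB, hB, map_mul τ, show (u : L) * b i * (τ (u : L) * τ (b j)) = ((u : L) * τ (u : L)) * (b i * τ (b j)) by ring,
        hux, one_mul]
    rw [hx, hx, hb] at h1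
    simp only [map_sum, map_smulₛₗ, LinearMap.sum_apply, LinearMap.smul_apply, hb, RingHom.id_apply,
      RingEquiv.coe_toRingHom, RingHom.coe_coe, smul_eq_mul, mul_ite, mul_one, mul_zero, Finset.sum_ite_eq',
      Finset.mem_univ, if_true] at h1
    rw [Matrix.mul_one, Matrix.mul_apply, Matrix.one_apply]
    simp only [transpose_apply, Matrix.map_apply]
    refine Eq.trans ?_ (h1.trans (if_congr eq_comm rfl rfl))
    exact Finset.sum_congr rfl fun l _ => by ring
  have hdet : M.det = 1 := by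
    rw [hM, ← Algebra.norm_eq_matrix_det]
    apply (algebraMap F L).injective
    rw [FiniteField.algebraMap_norm_eq_pow_sum, hfr, Nat.card_eq_fintype_card, hF, map_one]
    have hdvd : E ∣ ∑ i ∈ Finset.range n, (q ^ 2) ^ i := by
      rw [← Int.natCast_dvd_natCast]
      refine ⟨∑ i ∈ Finset.range n, (q : ℤ) ^ i, ?_⟩
      push_cast
      have hne : ((q : ℤ) ^ 2 - 1) ≠ 0 := by nlinarith
      apply mul_right_cancel₀ hne
      rw [geom_sum_mul, show (q : ℤ) ^ 2 - 1 = ((q : ℤ) + 1) * ((q : ℤ) - 1) by ring,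
        show (E : ℤ) * (∑ i ∈ Finset.range n, (q : ℤ) ^ i) * (((q : ℤ) + 1) * ((q : ℤ) - 1)) =
          (E * ((q : ℤ) + 1)) * ((∑ i ∈ Finset.range n, (q : ℤ) ^ i) * ((q : ℤ) - 1)) by ring, habs, geom_sum_mul]
      ring
    obtain ⟨t, ht⟩ := hdvd
    rw [ht, pow_mul, ← hu, ← Units.val_pow_eq_pow_val, pow_orderOf_eq_one, Units.val_one, one_pow]
  obtain ⟨g, hg⟩ := exists_su hσ M hdet hU
  refine ⟨g, ?_⟩
  rw [← orderOf_injective ((slToMat n F).comp (Cfsg.SU n F q).subtype) (fun a b h => Subtype.ext (Subtype.ext h)) g]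
  show orderOf (g.1 : Matrix (Fin n) (Fin n) F) = E
  rw [hg, hM, ← hu, ← orderOf_units]
  exact orderOf_injective (Algebra.leftMulMatrix b).toRingHom.toMonoidHom (Algebra.leftMulMatrix_injective b) (u : L)

include hF hσ in
/-- A cyclic subgroup of `SU_n` of order `(q ^ n - 1) / (q + 1)`, `n` even. -/
lemma exists_torus_even {m : ℕ} (hm : 1 ≤ m) (hn : n = 2 * m) :
    ∃ g : Cfsg.SU n F q, orderOf g = (altSum q n).natAbs := by
  classical
  subst hn
  have hq := two_le_q hF
  obtain ⟨L, _, _, _, φ, hfr, hcardL, hφ, hnorm⟩ := exists_extension_matrix (F := F) m hm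
  rw [hF, ← pow_mul] at hcardL
  set E := (altSum q (2 * m)).natAbs with hE
  have habs : (E : ℤ) * ((q : ℤ) + 1) = (q : ℤ) ^ (2 * m) - 1 := by
    rw [hE, altSum_natAbs_mul, (even_two_mul m).neg_pow, abs_sub_comm,
      abs_of_nonneg (sub_nonneg.2 (one_le_pow₀ (by omega)))]
  obtain ⟨u, hu⟩ := exists_orderOf_eq_of_dvd (G := Lˣ) (d := E) (by
    rw [Nat.card_units, Nat.card_eq_fintype_card, hcardL, ← Int.natCast_dvd_natCast,
      Nat.cast_sub (Nat.one_le_pow _ _ (by omega))]
    push_cast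
    exact ⟨(q : ℤ) + 1, habs.symm⟩)
  let Φ : Lˣ →* Matrix (Fin m ⊕ Fin m) (Fin m ⊕ Fin m) F :=
    { toFun := fun x => fromBlocks (φ (x : L)) 0 0 ((φ ((x⁻¹ : Lˣ) : L)).map σ)ᵀ
      map_one' := by
        rw [inv_one, Units.val_one, map_one, Matrix.map_one _ (map_zero σ) (map_one σ), transpose_one, fromBlocks_one]
      map_mul' := fun x y => by
        rw [fromBlocks_multiply]
        simp only [Matrix.mul_zero, Matrix.zero_mul, add_zero, zero_add, Units.val_mul, map_mul]
        rw [← transpose_mul, _root_.mul_inv_rev, Units.val_mul, map_mul,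
          show ((φ ((y⁻¹ : Lˣ) : L)) * φ ((x⁻¹ : Lˣ) : L)).map σ = (φ ((y⁻¹ : Lˣ) : L)).map σ * (φ ((x⁻¹ : Lˣ) : L)).map σ
            from Matrix.map_mul (f := σ.toRingHom)] }
  have hΦ : Function.Injective Φ := fun x y h => Units.ext (hφ (fromBlocks_inj.1 h).1)
  have h11 : φ (u : L) * φ ((u⁻¹ : Lˣ) : L) = 1 := by rw [← map_mul, Units.mul_inv, map_one]
  have h22 : φ ((u⁻¹ : Lˣ) : L) * φ (u : L) = 1 := by rw [← map_mul, Units.inv_mul, map_one]
  have hU : IsU σ (fromBlocks 0 1 1 0) (Φ u) := by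
    have hσσ : ((φ ((u⁻¹ : Lˣ) : L)).map σ).map σ = φ ((u⁻¹ : Lˣ) : L) := by
      ext i j; simp [sigma_sigma hF hσ]
    show (fromBlocks _ 0 0 _)ᵀ * fromBlocks 0 1 1 0 * (fromBlocks _ 0 0 _).map σ = _
    rw [fromBlocks_transpose, fromBlocks_map, fromBlocks_multiply, fromBlocks_multiply, transpose_transpose,
      transpose_map, hσσ]
    simp only [Matrix.mul_zero, Matrix.zero_mul, transpose_zero, Matrix.map_zero _ (map_zero σ), Matrix.mul_one,
      add_zero, zero_add]
    rw [← transpose_mul, h22, transpose_one,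
      ← (show ((φ ((u⁻¹ : Lˣ) : L)) * φ (u : L)).map σ = (φ ((u⁻¹ : Lˣ) : L)).map σ * (φ (u : L)).map σ
        from Matrix.map_mul (f := σ.toRingHom)), h22,
      Matrix.map_one _ (map_zero σ) (map_one σ)]
  have hdet : (Φ u).det = 1 := by
    show (fromBlocks _ 0 0 _).det = 1
    rw [det_fromBlocks_zero₂₁, det_transpose, show ((φ ((u⁻¹ : Lˣ) : L)).map σ).det = σ ((φ ((u⁻¹ : Lˣ) : L)).det) from
      (RingEquiv.map_det σ _).symm, hnorm, hnorm]
    have hN : σ (Algebra.norm F (u : L)) = Algebra.norm F (u : L) := by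
      have hN0 : Algebra.norm F (u : L) ≠ 0 := Algebra.norm_ne_zero_iff.2 u.ne_zero
      have h : Algebra.norm F (u : L) ^ (q - 1) = 1 := by
        apply (algebraMap F L).injective
        rw [map_pow, FiniteField.algebraMap_norm_eq_pow_sum, hfr, Nat.card_eq_fintype_card, hF, ← pow_mul, map_one]
        have hdvd : E ∣ (∑ i ∈ Finset.range m, (q ^ 2) ^ i) * (q - 1) := by
          refine ⟨1, ?_⟩
          rw [mul_one]
          have hz : (((∑ i ∈ Finset.range m, (q ^ 2) ^ i) * (q - 1) : ℕ) : ℤ) = (E : ℤ) := by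
            push_cast [Nat.cast_sub (show 1 ≤ q by omega)]
            apply mul_right_cancel₀ (show ((q : ℤ) + 1) ≠ 0 by omega)
            rw [habs, mul_assoc, show ((q : ℤ) - 1) * ((q : ℤ) + 1) = (q : ℤ) ^ 2 - 1 by ring, geom_sum_mul, ← pow_mul]
          exact_mod_cast hz
        obtain ⟨t, ht⟩ := hdvd
        rw [ht, pow_mul, ← hu, ← Units.val_pow_eq_pow_val, pow_orderOf_eq_one, Units.val_one, one_pow]
      rw [hσ]
      conv_lhs => rw [show q = q - 1 + 1 by omega, pow_succ, h, one_mul]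
    calc Algebra.norm F (u : L) * σ (Algebra.norm F ((u⁻¹ : Lˣ) : L))
        = σ (Algebra.norm F (u : L)) * σ (Algebra.norm F ((u⁻¹ : Lˣ) : L)) := by rw [hN]
      _ = 1 := by rw [← map_mul, ← map_mul, Units.mul_inv, map_one, map_one]
  have hH : (fromBlocks 0 1 1 0 : Matrix (Fin m ⊕ Fin m) (Fin m ⊕ Fin m) F)ᵀ =
      (fromBlocks 0 1 1 0 : Matrix (Fin m ⊕ Fin m) (Fin m ⊕ Fin m) F).map σ := by
    rw [fromBlocks_transpose, fromBlocks_map, transpose_one, transpose_zero, Matrix.map_one _ (map_zero σ) (map_one σ),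
      Matrix.map_zero _ (map_zero σ)]
  have hHd : (fromBlocks 0 1 1 0 : Matrix (Fin m ⊕ Fin m) (Fin m ⊕ Fin m) F).det ≠ 0 := fun h0 => by
    have h1 : (fromBlocks 0 1 1 0 : Matrix (Fin m ⊕ Fin m) (Fin m ⊕ Fin m) F) * fromBlocks 0 1 1 0 = 1 := by
      rw [fromBlocks_multiply]; simp
    have := congrArg Matrix.det h1
    rw [det_mul, h0, zero_mul, det_one] at this
    exact zero_ne_one this
  obtain ⟨g, hg⟩ := exists_su_of_form hσ (sigma_sigma hF hσ) (sigma_ne hF hσ) (n := 2 * m) (by simp; omega) hH hHd hU hdet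
  exact ⟨g, by rw [hg, orderOf_injective Φ hΦ, hu]⟩

end Torus

/-! ### Unipotent elements -/

lemma isNilpotent_fromBlocks {R : Type*} [CommRing R] {ι κ : Type*} [Fintype ι] [DecidableEq ι] [Fintype κ]
    [DecidableEq κ] {X : Matrix ι ι R} {Y : Matrix κ κ R} (C : Matrix κ ι R) (hX : IsNilpotent X)
    (hY : IsNilpotent Y) : IsNilpotent (fromBlocks X 0 C Y) := by
  obtain ⟨a, ha⟩ := hX
  obtain ⟨b, hb⟩ := hY
  have h : ∀ k, ∃ C', fromBlocks X 0 C Y ^ k = fromBlocks (X ^ k) 0 C' (Y ^ k) := by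
    intro k
    induction k with
    | zero => exact ⟨0, by rw [pow_zero, pow_zero, pow_zero, fromBlocks_one]⟩
    | succ k ih =>
      obtain ⟨C', h⟩ := ih
      exact ⟨C' * X + Y ^ k * C, by rw [pow_succ, h, fromBlocks_multiply]; simp [pow_succ]⟩
  obtain ⟨C', hC⟩ := h (a + b)
  refine ⟨(a + b) * 2, ?_⟩
  rw [pow_mul, hC, pow_eq_zero_of_le (by omega) ha, pow_eq_zero_of_le (by omega) hb, sq, fromBlocks_multiply]
  simp

section Unipotent

variable [Fintype F] (hF : Fintype.card F = q ^ 2) {σ : F ≃+* F} (hσ : ∀ a, σ a = a ^ q)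

include hF hσ in
lemma exists_trace_ne : ∃ a : F, σ a ≠ a := by
  by_contra h
  push Not at h
  exact sigma_ne hF hσ (RingEquiv.ext h)

include hF hσ in
lemma exists_unipotent_even {p : ℕ} [Fact p.Prime] [CharP F p] {m : ℕ} (hm : 1 ≤ m) (hn : n = m + m) :
    ∃ g : Cfsg.SU n F q, orderOf g = p ^ Nat.clog p n := by
  subst hn
  obtain ⟨U, hU⟩ := exists_sp_unipotent (ZMod p) (p := p) hm
  let f : ZMod p →+* F := ZMod.castHom dvd_rfl F
  have hσf : ∀ x, σ (f x) = f x := fun x => RingHom.congr_fun (Subsingleton.elim ((σ : F →+* F).comp f) f) x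
  obtain ⟨a, ha⟩ := exists_trace_ne hF hσ
  set ω := a - σ a
  have hω : σ ω = -ω := by simp [ω, sigma_sigma hF hσ]
  have hω0 : ω ≠ 0 := sub_ne_zero.2 (Ne.symm ha)
  have hJf : (Matrix.J (Fin m) (ZMod p)).map f = Matrix.J (Fin m) F := by
    ext (i | i) (j | j) <;> simp [Matrix.J, Matrix.one_apply, apply_ite f]
  have hJσ : (Matrix.J (Fin m) F).map σ = Matrix.J (Fin m) F := by
    ext (i | i) (j | j) <;> simp [Matrix.J, Matrix.one_apply, apply_ite σ]
  set A := (U.1).map f
  have hA : IsU σ (ω • Matrix.J (Fin m) F) A := by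
    have h1 := congrArg (fun M : Matrix (Fin m ⊕ Fin m) (Fin m ⊕ Fin m) (ZMod p) => M.map f) (SymplecticGroup.mem_iff'.1 U.2)
    rw [Matrix.map_mul, Matrix.map_mul, hJf, transpose_map] at h1
    show Aᵀ * (ω • Matrix.J (Fin m) F) * A.map σ = _
    rw [show A.map σ = A by ext i j; exact hσf _, Matrix.mul_smul, Matrix.smul_mul, h1]
  have hd : A.det = 1 := by
    show (f.mapMatrix U.1).det = 1
    rw [← RingHom.map_det, SymplecticGroup.det_eq_one U.2, map_one]
  have hH : (ω • Matrix.J (Fin m) F)ᵀ = (ω • Matrix.J (Fin m) F).map σ := by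
    rw [transpose_smul, Matrix.J_transpose, Matrix.map_smul' (f := σ) (hf := map_mul σ), hω, hJσ, neg_smul, smul_neg]
  have hHd : (ω • Matrix.J (Fin m) F).det ≠ 0 := by
    rw [det_smul]
    exact mul_ne_zero (pow_ne_zero _ hω0) (isUnit_iff_ne_zero.1 (Matrix.isUnit_det_J _ _))
  obtain ⟨g, hg⟩ := exists_su_of_form hσ (sigma_sigma hF hσ) (sigma_ne hF hσ) (n := m + m) (by simp) hH hHd hA hd
  refine ⟨g, ?_⟩
  rw [hg, ← hU]
  exact orderOf_injective (f.mapMatrix.toMonoidHom.comp (symplecticGroup (Fin m) (ZMod p)).subtype)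
    (fun x y h => Subtype.ext (Matrix.map_injective f.injective h)) U

/-- Block extension by one. -/
def ext1 (k : ℕ) : Matrix (Fin k) (Fin k) F →* Matrix (Fin (k + 1)) (Fin (k + 1)) F where
  toFun M := Matrix.reindexAlgEquiv F F finSumFinEquiv (fromBlocks M 0 0 (1 : Matrix (Fin 1) (Fin 1) F))
  map_one' := by rw [fromBlocks_one, map_one]
  map_mul' M N := by rw [← map_mul, fromBlocks_multiply]; simp

omit [Fintype F] in
lemma ext1_injective (k : ℕ) : Function.Injective (ext1 (F := F) k) := fun _ _ h =>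
  (fromBlocks_inj.1 ((Matrix.reindexAlgEquiv F F _).injective h)).1

omit [Fintype F] in
lemma det_ext1 (k : ℕ) (M : Matrix (Fin k) (Fin k) F) : (ext1 k M).det = M.det := by
  show (Matrix.reindexAlgEquiv F F _ _).det = _
  rw [det_reindexAlgEquiv, det_fromBlocks_zero₂₁, det_one, mul_one]

omit [Fintype F] in
lemma adj_ext1 (k : ℕ) (M : Matrix (Fin k) (Fin k) F) : adj σ (ext1 k M) = ext1 k (adj σ M) := by
  show ((Matrix.reindex _ _ _).map σ)ᵀ = Matrix.reindex _ _ _
  rw [reindex_apply, reindex_apply, ← submatrix_map, transpose_submatrix, fromBlocks_map,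
    fromBlocks_transpose]
  simp [adj, Matrix.map_zero _ (map_zero σ), Matrix.map_one _ (map_zero σ) (map_one σ)]

include hF hσ in
lemma exists_ext1 {k : ℕ} (g : Cfsg.SU k F q) :
    ∃ g' : Cfsg.SU (k + 1) F q, (g'.1 : Matrix (Fin (k + 1)) (Fin (k + 1)) F) = ext1 k (g.1 : Matrix (Fin k) (Fin k) F) ∧
      orderOf g' = orderOf g := by
  have h1 : IsU σ 1 (ext1 k (g.1 : Matrix (Fin k) (Fin k) F)) := by
    rw [isU_one_iff (sigma_sigma hF hσ), adj_ext1, ← map_mul,
      (isU_one_iff (sigma_sigma hF hσ) _).1 ((mem_SU_iff hσ _).1 g.2), map_one]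
  obtain ⟨g', hg'⟩ := exists_su hσ _ (by rw [det_ext1]; exact g.1.2) h1
  refine ⟨g', hg', ?_⟩
  rw [← orderOf_injective ((slToMat (k + 1) F).comp (Cfsg.SU (k + 1) F q).subtype) (fun a b h => Subtype.ext (Subtype.ext h)) g']
  show orderOf (g'.1 : Matrix (Fin (k + 1)) (Fin (k + 1)) F) = _
  rw [hg', orderOf_injective _ (ext1_injective k)]
  exact orderOf_injective ((slToMat k F).comp (Cfsg.SU k F q).subtype) (fun a b h => Subtype.ext (Subtype.ext h)) g

include hF hσ in
/-- The regular unipotent element in dimension `2 ^ j + 1`, characteristic two. -/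
lemma exists_unipotent_two [CharP F 2] {j m : ℕ} (hm : 1 ≤ m) (hj : 2 * m = 2 ^ j) :
    ∃ g : Cfsg.SU (2 * m + 1) F q, 2 ^ (j + 1) ∣ orderOf g := by
  classical
  haveI : Fact (Nat.Prime 2) := ⟨Nat.prime_two⟩
  obtain ⟨a, ha⟩ := exists_trace_ne hF hσ
  have hneg : ∀ x : F, -x = x := CharTwo.neg_eq
  have ht : a + σ a ≠ 0 := fun h => ha (by rw [eq_neg_of_add_eq_zero_right h, hneg])
  set b := a / (a + σ a)
  have hb : b + σ b = 1 := by
    simp only [b, map_div₀, map_add, sigma_sigma hF hσ]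
    rw [add_comm (σ a) a, ← add_div, div_self ht]
  let l : Fin m := ⟨m - 1, by omega⟩
  set T : Matrix (Fin m) (Fin m) F := jordanUni F m with hTdef
  set Nj : Matrix (Fin m) (Fin m) F := T - 1 with hNj
  have hNjp : ∀ k, Nj ^ k = Matrix.of fun x y : Fin m => if (x : ℕ) = y + k then (1 : F) else 0 := fun k => by
    rw [hNj, hTdef, jordanUni, add_sub_cancel_left, shift_pow]
  have hNjm : Nj ^ m = 0 := by
    rw [hNjp]; ext x y
    simp only [of_apply, Matrix.zero_apply]
    rw [if_neg]; have := x.isLt; omega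
  have hTu : IsUnit T.det := by rw [hTdef, det_jordanUni]; exact isUnit_one
  haveI : Invertible T := Matrix.invertibleOfIsUnitDet _ hTu
  set U : Matrix (Fin m) (Fin m) F := (T⁻¹)ᵀ with hUdef
  have hTU : Tᵀ * U = 1 := by rw [hUdef, ← transpose_mul, nonsing_inv_mul T hTu, transpose_one]
  have hUT : Uᵀ * T = 1 := by rw [hUdef, transpose_transpose, nonsing_inv_mul T hTu]
  have hσT : T.map σ = T := by
    ext x y
    simp [hTdef, jordanUni, Matrix.one_apply, apply_ite σ]
  have hσU : U.map σ = U := by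
    have h1 := congrArg (fun M : Matrix (Fin m) (Fin m) F => M.map σ) hTU
    rw [show (Tᵀ * U).map σ = (Tᵀ).map σ * U.map σ from Matrix.map_mul (f := σ.toRingHom), transpose_map, hσT,
      Matrix.map_one _ (map_zero σ) (map_one σ)] at h1
    have h2 : U * Tᵀ = 1 := mul_eq_one_comm.1 hTU
    calc U.map σ = (U * Tᵀ) * U.map σ := by rw [h2, Matrix.one_mul]
      _ = U := by rw [Matrix.mul_assoc, h1, Matrix.mul_one]
  set δr : Matrix (Fin 1) (Fin m) F := Matrix.single 0 l 1
  set δc : Matrix (Fin m) (Fin 1) F := Matrix.single l 0 1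
  set E : Matrix (Fin m) (Fin m) F := Matrix.single l l 1
  set P : Matrix (Fin m) (Fin 1 ⊕ Fin m) F := fromCols 0 1
  set Q : Matrix (Fin 1 ⊕ Fin m) (Fin 1 ⊕ Fin m) F := fromBlocks 1 0 0 0
  set H : Matrix (Fin m ⊕ (Fin 1 ⊕ Fin m)) (Fin m ⊕ (Fin 1 ⊕ Fin m)) F := fromBlocks 0 P Pᵀ Q
  set D : Matrix (Fin 1 ⊕ Fin m) (Fin 1 ⊕ Fin m) F := fromBlocks 1 0 0 U
  set R0 : Matrix (Fin 1 ⊕ Fin m) (Fin m) F := fromRows δr (b • E)
  set W0 : Matrix (Fin 1 ⊕ Fin m) (Fin 1 ⊕ Fin m) F := fromBlocks 1 0 δc 1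
  set G1 : Matrix (Fin m ⊕ (Fin 1 ⊕ Fin m)) (Fin m ⊕ (Fin 1 ⊕ Fin m)) F := fromBlocks T 0 0 D
  set G2 : Matrix (Fin m ⊕ (Fin 1 ⊕ Fin m)) (Fin m ⊕ (Fin 1 ⊕ Fin m)) F := fromBlocks 1 0 R0 W0
  have m0 : ∀ (α β : Type) (i : α) (j' : β) [DecidableEq α] [DecidableEq β], (Matrix.single i j' (1 : F)).map σ = Matrix.single i j' 1 := by
    intro α β i j' _ _; ext x y; simp [Matrix.single, apply_ite σ]
  have hG1 : IsU σ H G1 := by
    show _ = _
    simp only [G1, H, D, P, Q, fromBlocks_map, fromBlocks_transpose, fromBlocks_multiply, transpose_fromCols, fromCols_mul_fromBlocks,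
      fromBlocks_mul_fromRows, mul_fromCols, fromRows_mul, hσT, hσU, Matrix.map_zero _ (map_zero σ),
      Matrix.map_one _ (map_zero σ) (map_one σ), transpose_zero, transpose_one, Matrix.mul_zero, Matrix.zero_mul,
      Matrix.mul_one, Matrix.one_mul, add_zero, zero_add, hTU, hUT]
  have hE : δrᵀ * δr = E := by
    simp [δr, E, transpose_single, single_mul_single_same]
  have hG2 : IsU σ H G2 := by
    show _ = _
    have hR0σ : R0.map σ = fromRows δr (σ b • E) := by
      ext (x | x) y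
      · simp [R0, δr, Matrix.single, apply_ite σ]
      · simp [R0, E, Matrix.single, apply_ite σ]
    have hW0σ : W0.map σ = W0 := by
      simp only [W0, fromBlocks_map, Matrix.map_zero _ (map_zero σ), Matrix.map_one _ (map_zero σ) (map_one σ), δc, m0]
    have hc : δrᵀ = δc := by simp [δr, δc, transpose_single]
    have hEt : Eᵀ = E := by simp [E, transpose_single]
    have hmneg : ∀ {α β : Type} (M : Matrix α β F), M + M = 0 := fun M => by ext x y; exact CharTwo.add_self_eq_zero _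
    simp only [G2, H, P, Q, fromBlocks_map, fromBlocks_transpose, fromBlocks_multiply, hR0σ, hW0σ,
      Matrix.map_zero _ (map_zero σ), Matrix.map_one _ (map_zero σ) (map_one σ)]
    simp only [R0, W0, fromBlocks_transpose, transpose_fromCols, transpose_fromRows, fromCols_mul_fromBlocks,
      fromBlocks_mul_fromRows, fromBlocks_multiply, mul_fromCols, fromRows_mul, fromCols_mul_fromRows,
      transpose_zero, transpose_one, transpose_smul, Matrix.mul_zero, Matrix.zero_mul,
      Matrix.mul_one, Matrix.one_mul, Matrix.smul_mul, Matrix.mul_smul, add_zero, zero_add, hc, hEt]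
    have hadd : ∀ (A C : Matrix (Fin m) (Fin 1) F) (B' D' : Matrix (Fin m) (Fin m) F),
        fromCols A B' + fromCols C D' = fromCols (A + C) (B' + D') := fun _ _ _ _ => by
      ext x (y | y) <;> rfl
    simp only [hadd, fromCols_mul_fromBlocks, fromCols_mul_fromRows, fromCols_inj, Matrix.mul_zero, Matrix.zero_mul,
      Matrix.mul_one, Matrix.one_mul, Matrix.smul_mul, Matrix.mul_smul, add_zero, zero_add]
    congr 1
    · rw [show δc * δr = E by rw [← hc, hE]]
      rw [add_left_comm (b • E) E, show b • E + σ b • E = E by rw [← add_smul, hb, one_smul]]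
      exact hmneg E
    · ext x (y | y) <;> simp [← hc, CharTwo.add_self_eq_zero]
    · ext (y | y) x <;> simp [← hc, CharTwo.add_self_eq_zero]
  set A := G1 * G2 with hAdef
  have hA : IsU σ H A := hG1.mul hG2
  have hAd : A.det = 1 := by
    rw [hAdef, det_mul]
    simp only [G1, G2, D, W0, det_fromBlocks_zero₂₁, det_fromBlocks_zero₁₂, det_one, one_mul, mul_one, hUdef,
      det_transpose]
    rw [← det_mul, mul_nonsing_inv T hTu, det_one]
  have hHt : Hᵀ = H.map σ := by
    simp only [H, P, Q, fromBlocks_transpose, fromBlocks_map, transpose_transpose]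
    congr 1
    · simp [Matrix.map_zero _ (map_zero σ)]
    · ext x (y | y) <;> simp [Matrix.one_apply, apply_ite σ]
    · ext (y | y) x <;> simp [Matrix.one_apply, apply_ite σ]
    · ext (x | x) (y | y) <;> simp [Matrix.one_apply, apply_ite σ]
  have hHd : H.det ≠ 0 := fun h0 => by
    have h1 : H * H = 1 := by
      simp only [H, P, Q, fromBlocks_multiply, transpose_fromCols, fromCols_mul_fromRows, fromRows_mul_fromCols,
        fromCols_mul_fromBlocks, fromBlocks_mul_fromRows, fromBlocks_multiply, transpose_zero, transpose_one,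
        Matrix.mul_zero, Matrix.zero_mul, Matrix.mul_one, add_zero, zero_add, ← fromBlocks_one]
      congr 1
      · ext x (y | y) <;> simp
      · ext (y | y) x <;> simp
      · ext (x | x) (y | y) <;> simp
    have := congrArg Matrix.det h1
    rw [det_mul, h0, zero_mul, det_one] at this
    exact zero_ne_one this
  have hsub : ∀ {α β γ δ : Type} (A : Matrix α β F) (B : Matrix α δ F) (C : Matrix γ β F) (D : Matrix γ δ F) (A' : Matrix α β F)
      (B' : Matrix α δ F) (C' : Matrix γ β F) (D' : Matrix γ δ F),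
      fromBlocks A B C D - fromBlocks A' B' C' D' = fromBlocks (A - A') (B - B') (C - C') (D - D') := fun _ _ _ _ _ _ _ _ => by
    ext (i | i) (j | j) <;> rfl
  set N := A - 1 with hN
  have hAb : A = fromBlocks T 0 (D * R0) (D * W0) := by
    rw [hAdef, fromBlocks_multiply]; simp
  have hDW : D * W0 - 1 = fromBlocks 0 0 (U * δc) (U - 1) := by
    simp only [D, W0, fromBlocks_multiply, ← fromBlocks_one, hsub, Matrix.mul_zero, Matrix.zero_mul,
      Matrix.mul_one, Matrix.one_mul, add_zero, zero_add, sub_self, sub_zero]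
  have hNb : N = fromBlocks Nj 0 (D * R0) (fromBlocks 0 0 (U * δc) (U - 1)) := by
    rw [hN, hAb, ← fromBlocks_one, hsub, sub_zero, sub_zero, hDW]
  have hU1 : U - 1 = ((-T⁻¹) * Nj)ᵀ := by
    rw [hUdef, hNj, Matrix.mul_sub, Matrix.neg_mul, Matrix.neg_mul, nonsing_inv_mul T hTu, Matrix.mul_one,
      transpose_sub, transpose_neg, transpose_neg, transpose_one]
    abel
  have hcom : Commute (-T⁻¹) Nj := by
    refine Commute.neg_left ?_
    rw [hNj]
    exact ((show Commute T⁻¹ T from (nonsing_inv_mul T hTu).trans (mul_nonsing_inv T hTu).symm).sub_right (Commute.one_right _))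
  have hU1m : (U - 1) ^ m = 0 := by
    rw [hU1, ← transpose_pow, hcom.mul_pow, hNjm, Matrix.mul_zero, transpose_zero]
  have hnilN : IsNilpotent N := by
    rw [hNb]
    exact isNilpotent_fromBlocks _ ⟨m, hNjm⟩ (isNilpotent_fromBlocks _ ⟨1, pow_one 0⟩ ⟨m, hU1m⟩)
  let z : Fin m := ⟨0, by omega⟩
  have hbot : ∀ k, ∀ f : Fin m → F, N ^ k *ᵥ Sum.elim (0 : Fin m → F) (Sum.elim (0 : Fin 1 → F) f) =
      Sum.elim (0 : Fin m → F) (Sum.elim (0 : Fin 1 → F) ((U - 1) ^ k *ᵥ f)) := by
    intro k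
    induction k with
    | zero => intro f; simp
    | succ k ih =>
      intro f
      rw [pow_succ, ← mulVec_mulVec, hNb, fromBlocks_mulVec, ← hNb]
      simp only [Sum.elim_comp_inl, Sum.elim_comp_inr, mulVec_zero, zero_mulVec, zero_add, fromBlocks_mulVec, add_zero]
      rw [ih, pow_succ, ← mulVec_mulVec]
  have htop : ∀ k, k ≤ m - 1 → N ^ k *ᵥ Sum.elim (Pi.single z 1) (0 : Fin 1 ⊕ Fin m → F) =
      Sum.elim (Nj ^ k *ᵥ Pi.single z 1) (0 : Fin 1 ⊕ Fin m → F) := by
    intro k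
    induction k with
    | zero => intro; rw [pow_zero, pow_zero, one_mulVec, one_mulVec]
    | succ k ih =>
      intro hk
      rw [pow_succ', ← mulVec_mulVec, ih (by omega), hNb, fromBlocks_mulVec]
      simp only [Sum.elim_comp_inl, Sum.elim_comp_inr, mulVec_zero, add_zero]
      congr 1
      · rw [mulVec_mulVec, ← pow_succ']
      · rw [← mulVec_mulVec]
        have h0 : R0 *ᵥ (Nj ^ k *ᵥ Pi.single z 1) = 0 := by
          have hvl : (Nj ^ k *ᵥ Pi.single z (1 : F)) l = 0 := by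
            rw [mulVec_single_one, hNjp]
            simp [z, l]; omega
          generalize Nj ^ k *ᵥ Pi.single z (1 : F) = w at hvl ⊢
          funext x
          rcases x with x | x
          · simp [R0, δr, hvl, Matrix.single_mulVec, Subsingleton.elim x 0]
          · simp [R0, E, hvl, Matrix.single_mulVec, Matrix.smul_mulVec]
        rw [h0, mulVec_zero]
  have hkey : N ^ (2 * m) *ᵥ Sum.elim (Pi.single z 1) (0 : Fin 1 ⊕ Fin m → F) ≠ 0 := by
    have e : 2 * m = (m - 1) + 1 + 1 + (m - 1) := by omega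
    rw [e, add_comm _ (m - 1), add_comm (m - 1) 1, add_comm (1 + (m - 1)) 1, pow_add, ← mulVec_mulVec, pow_add, pow_one,
      ← mulVec_mulVec, pow_add, pow_one, ← mulVec_mulVec, htop _ le_rfl]
    have hel : Nj ^ (m - 1) *ᵥ Pi.single z (1 : F) = Pi.single l 1 := by
      rw [mulVec_single_one, hNjp]
      funext x
      simp [z, l, Pi.single_apply, Fin.ext_iff]
    rw [hel]
    have h1 : N *ᵥ Sum.elim (Pi.single l 1) (0 : Fin 1 ⊕ Fin m → F) =
        Sum.elim (Nj *ᵥ Pi.single l 1) ((D * R0) *ᵥ Pi.single l 1) := by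
      rw [hNb, fromBlocks_mulVec]
      simp only [Sum.elim_comp_inl, Sum.elim_comp_inr, mulVec_zero, zero_mulVec, add_zero]
    have hNl : Nj *ᵥ Pi.single l (1 : F) = 0 := by
      rw [← pow_one Nj, mulVec_single_one, hNjp]
      funext x
      simp [l]; omega
    have hR : (D * R0) *ᵥ Pi.single l (1 : F) = Sum.elim (1 : Fin 1 → F) (b • (U *ᵥ Pi.single l 1)) := by
      rw [← mulVec_mulVec]
      have : R0 *ᵥ Pi.single l (1 : F) = Sum.elim (1 : Fin 1 → F) (b • Pi.single l 1) := by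
        funext x
        rcases x with x | x
        · simp [R0, δr, Subsingleton.elim x 0]
        · simp [R0, E, Matrix.single, Pi.single_apply, eq_comm]
      rw [this]
      simp only [D, fromBlocks_mulVec, Sum.elim_comp_inl, Sum.elim_comp_inr, one_mulVec, zero_mulVec, add_zero,
        zero_add, mulVec_smul, mulVec_zero, smul_zero]
    rw [h1, hNl, hR]
    have h2 : N *ᵥ Sum.elim (0 : Fin m → F) (Sum.elim (1 : Fin 1 → F) (b • (U *ᵥ Pi.single l 1))) =
        Sum.elim (0 : Fin m → F) (Sum.elim (0 : Fin 1 → F) (U *ᵥ Pi.single l 1 + (U - 1) *ᵥ (b • (U *ᵥ Pi.single l 1)))) := by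
      rw [hNb, fromBlocks_mulVec]
      simp only [Sum.elim_comp_inl, Sum.elim_comp_inr, mulVec_zero, zero_mulVec, zero_add, fromBlocks_mulVec, add_zero]
      congr 3
      rw [← mulVec_mulVec]
      congr 1
      funext x
      simp [δc, Matrix.single_mulVec, Pi.single_apply, Function.update_apply, eq_comm]
    rw [h2, hbot, mulVec_add, mulVec_smul, mulVec_smul, mulVec_mulVec _ ((U - 1) ^ (m - 1)) (U - 1), ← pow_succ,
      show m - 1 + 1 = m by omega, hU1m, zero_mulVec, smul_zero, add_zero]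
    intro h0
    have h00 : (((U - 1) ^ (m - 1) * U) *ᵥ Pi.single l 1) z = 0 := by
      rw [← mulVec_mulVec]
      exact congrFun h0 (Sum.inr (Sum.inr z))
    rw [mulVec_single_one, hU1, ← transpose_pow, hcom.mul_pow, hUdef, ← transpose_mul, col_apply, transpose_apply] at h00
    have hX : Nj ^ (m - 1) = Matrix.single l z 1 := by
      rw [hNjp]
      ext x y
      have := x.isLt
      simp only [of_apply, Matrix.single, z, l, Fin.ext_iff]
      exact if_congr (by omega) rfl rfl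
    rw [hX, ← Matrix.mul_assoc, Matrix.mul_single_apply_same, mul_one] at h00
    have hfix : T⁻¹ *ᵥ Pi.single l (1 : F) = Pi.single l 1 := by
      conv_lhs =>
        rw [show (Pi.single l (1 : F)) = T *ᵥ Pi.single l 1 by
          rw [show T = 1 + Nj by rw [hNj, add_sub_cancel], add_mulVec, one_mulVec, hNl, add_zero], mulVec_mulVec,
          nonsing_inv_mul T hTu, one_mulVec]
    have hfixk : ∀ k, (-T⁻¹) ^ k *ᵥ Pi.single l (1 : F) = Pi.single l 1 := by
      intro k
      induction k with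
      | zero => rw [pow_zero, one_mulVec]
      | succ k ih =>
        rw [pow_succ, ← mulVec_mulVec, neg_mulVec, hfix, mulVec_neg, ih]
        funext x; simp [hneg]
    have h3 : (T⁻¹ * (-T⁻¹) ^ (m - 1)) *ᵥ Pi.single l (1 : F) = Pi.single l 1 := by
      rw [← mulVec_mulVec, hfixk, hfix]
    have h4 := congrFun h3 l
    rw [mulVec_single_one, col_apply, h00, Pi.single_eq_same] at h4
    exact zero_ne_one h4
  have hι : Fintype.card (Fin m ⊕ (Fin 1 ⊕ Fin m)) = 2 * m + 1 := by simp; omega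
  obtain ⟨g, hg⟩ := exists_su_of_form hσ (sigma_sigma hF hσ) (sigma_ne hF hσ) hι hHt hHd hA hAd
  refine ⟨g, ?_⟩
  rw [hg]
  haveI : Nonempty (Fin m ⊕ (Fin 1 ⊕ Fin m)) := ⟨Sum.inl z⟩
  obtain ⟨i, hi⟩ := hnilN
  have hp2 : ∀ t, A ^ 2 ^ t - 1 = N ^ 2 ^ t := fun t => by
    rw [hN, sub_pow_char_pow_of_commute (p := 2) (n := t) (h := Commute.one_right A), one_pow]
  obtain ⟨c, -, hc⟩ := (Nat.dvd_prime_pow Nat.prime_two).1 (orderOf_dvd_of_pow_eq_one (x := A) (n := 2 ^ i) (by
    rw [← sub_eq_zero, hp2]; exact pow_eq_zero_of_le (Nat.lt_two_pow_self.le) hi))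
  rw [hc]
  refine pow_dvd_pow 2 ?_
  by_contra hlt
  apply hkey
  have h5 : A ^ 2 ^ j = 1 := orderOf_dvd_iff_pow_eq_one.1 (hc ▸ pow_dvd_pow 2 (by omega))
  rw [hj, ← hp2, h5, sub_self, zero_mulVec]

include hF hσ in
/-- `SU_n` has an element of order divisible by the exponent of its unipotent radical. -/
lemma exists_unipotent {p : ℕ} [Fact p.Prime] [CharP F p] (hn : 2 ≤ n) :
    ∃ g : Cfsg.SU n F q, (∃ i, orderOf g = p ^ i) ∧ p ^ Nat.clog p n ∣ orderOf g := by
  have hp : p.Prime := Fact.out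
  rcases Nat.even_or_odd' n with ⟨m, rfl | rfl⟩
  · obtain ⟨g, hg⟩ := exists_unipotent_even hF hσ (p := p) (show 1 ≤ m by omega) (two_mul m)
    exact ⟨g, ⟨_, hg⟩, hg.symm.dvd⟩
  by_cases hc : Nat.clog p (2 * m + 1) = Nat.clog p (2 * m)
  · obtain ⟨g, hg⟩ := exists_unipotent_even hF hσ (p := p) (show 1 ≤ m by omega) (two_mul m)
    obtain ⟨g', -, hg'⟩ := exists_ext1 hF hσ g
    exact ⟨g', ⟨_, hg'.trans hg⟩, by rw [hg', hg, hc]⟩
  · have hj : 2 * m = p ^ Nat.clog p (2 * m) := by
      rcases Nat.lt_or_ge (2 * m) (p ^ Nat.clog p (2 * m)) with h | h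
      · exact absurd (le_antisymm (Nat.clog_le_of_le_pow (by omega)) (Nat.clog_mono_right p (by omega))) hc
      · exact le_antisymm (Nat.le_pow_clog hp.one_lt _) h
    obtain rfl : p = 2 := by
      by_contra h2
      have h3 : Odd (2 * m) := hj ▸ (hp.odd_of_ne_two h2).pow
      exact Nat.not_even_iff_odd.2 h3 (even_two_mul m)
    obtain ⟨g, hg⟩ := exists_unipotent_two hF hσ (show 1 ≤ m by omega) hj
    have hle : Nat.clog 2 (2 * m + 1) ≤ Nat.clog 2 (2 * m) + 1 := by
      refine Nat.clog_le_of_le_pow ?_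
      rw [pow_succ, ← hj]; omega
    obtain ⟨t, o, ho, hto⟩ := Nat.exists_eq_pow_mul_and_not_dvd (orderOf_pos g).ne' 2 (by norm_num)
    have ho0 : o ≠ 0 := by rintro rfl; exact ho (dvd_zero 2)
    refine ⟨g ^ o, ⟨t, ?_⟩, ?_⟩
    all_goals
      have hpo : orderOf (g ^ o) = 2 ^ t := by
        rw [orderOf_pow' _ ho0, hto, Nat.gcd_eq_right (dvd_mul_left _ _),
          Nat.mul_div_cancel _ (Nat.pos_of_ne_zero ho0)]
    · exact hpo
    · rw [hpo]
      have h1 : 2 ^ (Nat.clog 2 (2 * m) + 1) ∣ 2 ^ t * o := hto ▸ hg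
      exact (pow_dvd_pow 2 hle).trans (((Nat.Coprime.pow_left _ ((Nat.prime_two.coprime_iff_not_dvd).2 ho))).dvd_of_dvd_mul_right h1)

end Unipotent

end CfsgLib.UnitarySpec
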